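import Groth.Agent.S2082
import Groth.Agent.Ega4A.RegCM
import Mathlib.RingTheory.Ideal.GoingUp
import Mathlib.RingTheory.Ideal.HasGoingUp
import Mathlib.RingTheory.LocalRing.Module
import Mathlib.RingTheory.KrullDimension.Field

/-!
# A regular local ring finite over a regular local subring is flat (free)
-/

set_option autoImplicit false
universe u v

namespace K874.Miracle

theorem ringKrullDim_le_of_isIntegral {R A : Type*} [CommRing R] [CommRing A] [Algebra R A]
    [Algebra.IsIntegral R A] : ringKrullDim A ≤ ringKrullDim R := by
  refine Order.krullDim_le_of_strictMono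
    (fun x : PrimeSpectrum A ↦ PrimeSpectrum.comap (algebraMap R A) x) ?_
  intro x y hxy
  exact Ideal.IsIntegral.comap_lt_comap (R := R) (A := A) hxy

theorem le_ringKrullDim_of_isIntegral {R A : Type*} [CommRing R] [CommRing A] [Algebra R A]
    [Algebra.IsIntegral R A] (hinj : Function.Injective (algebraMap R A)) :
    ringKrullDim R ≤ ringKrullDim A := by
  have hfs : FaithfulSMul R A := (faithfulSMul_iff_algebraMap_injective R A).mpr hinj
  refine iSup_le fun l => ?_
  obtain ⟨P, hP, hP'⟩ := (Ideal.nonempty_primesOver (S := A) l.head.asIdeal)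
  obtain ⟨L, hL, -, -⟩ := Ideal.exists_ltSeries_of_hasGoingUp (S := A) l P
  rw [← hL]
  exact le_iSup (fun (p : LTSeries (PrimeSpectrum A)) => (p.length : WithBot ℕ∞)) L

theorem ringKrullDim_eq_of_isIntegral {R A : Type*} [CommRing R] [CommRing A] [Algebra R A]
    [Algebra.IsIntegral R A] (hinj : Function.Injective (algebraMap R A)) :
    ringKrullDim R = ringKrullDim A :=
  le_antisymm (le_ringKrullDim_of_isIntegral hinj) ringKrullDim_le_of_isIntegral

/-- one universe -/
theorem flat_of_finite_aux {R A : Type u} [CommRing R] [CommRing A] [IsRegularLocalRing R]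
    [IsRegularLocalRing A] [Algebra R A] [Module.Finite R A]
    (hinj : Function.Injective (algebraMap R A)) : Module.Flat R A := by
  have : LocCoh.IsCohenMacaulayLocalRing A :=
    Groth.Agent.Ega4A.RegCM.isCohenMacaulayLocalRing_of_isRegularLocalRing A
  have hfs : FaithfulSMul R A := (faithfulSMul_iff_algebraMap_injective R A).mpr hinj
  have hint : Algebra.IsIntegral R A := inferInstance
  have hloc : IsLocalHom (algebraMap R A) := inferInstance
  apply Groth.Agent.S2082.result (R := R) (S := A)
  have h0 : ringKrullDim (A ⧸ (IsLocalRing.maximalIdeal R).map (algebraMap R A)) = 0 := by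
    have hle : (IsLocalRing.maximalIdeal R).map (algebraMap R A) ≤ IsLocalRing.maximalIdeal A :=
      ((IsLocalRing.local_hom_TFAE (algebraMap R A)).out 0 2).mp hloc
    have hnt : Nontrivial (A ⧸ (IsLocalRing.maximalIdeal R).map (algebraMap R A)) := by
      apply Ideal.Quotient.nontrivial_iff.mpr
      intro h
      rw [h] at hle
      exact (Ideal.IsPrime.ne_top' (top_le_iff.mp hle))
    apply le_antisymm _ ringKrullDim_nonneg_of_nontrivial
    let : Algebra (R ⧸ IsLocalRing.maximalIdeal R)
        (A ⧸ (IsLocalRing.maximalIdeal R).map (algebraMap R A)) :=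
      (Ideal.quotientMap _ (algebraMap R A) Ideal.le_comap_map).toAlgebra
    have : Algebra.IsIntegral (R ⧸ IsLocalRing.maximalIdeal R)
        (A ⧸ (IsLocalRing.maximalIdeal R).map (algebraMap R A)) := by
      constructor
      intro x
      obtain ⟨x, rfl⟩ := Ideal.Quotient.mk_surjective x
      have hx := hint.isIntegral x
      obtain ⟨f, hf, hfx⟩ := hx
      refine ⟨f.map (Ideal.Quotient.mk _), hf.map _, ?_⟩
      rw [Polynomial.eval₂_map]
      have : (algebraMap (R ⧸ IsLocalRing.maximalIdeal R)
        (A ⧸ (IsLocalRing.maximalIdeal R).map (algebraMap R A))).comp (Ideal.Quotient.mk _) =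
        (Ideal.Quotient.mk _).comp (algebraMap R A) := by
        ext r
        rfl
      rw [this, ← Polynomial.hom_eval₂, hfx, map_zero]
    refine (ringKrullDim_le_of_isIntegral (R := R ⧸ IsLocalRing.maximalIdeal R)).trans ?_
    rw [ringKrullDim_eq_zero_of_isField]
    exact (Ideal.Quotient.maximal_ideal_iff_isField_quotient _).mp inferInstance
  rw [h0, add_zero]
  exact (ringKrullDim_eq_of_isIntegral hinj).symm

/-- A regular local ring `A` finite over a regular local subring `R` is flat over `R`. -/
theorem flat_of_finite {R : Type u} {A : Type v} [CommRing R] [CommRing A] [IsRegularLocalRing R]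
    [IsRegularLocalRing A] [Algebra R A] [Module.Finite R A]
    (hinj : Function.Injective (algebraMap R A)) : Module.Flat R A := by
  let R₀ : Subring A := (algebraMap R A).range
  let e : R ≃+* R₀ := RingEquiv.ofBijective (algebraMap R A).rangeRestrict
    ⟨fun x y h => hinj (congrArg Subtype.val h), (algebraMap R A).rangeRestrict_surjective⟩
  have hR₀ : IsRegularLocalRing R₀ := IsRegularLocalRing.of_ringEquiv e
  let : Algebra R R₀ := e.toRingHom.toAlgebra
  have : IsScalarTower R R₀ A := IsScalarTower.of_algebraMap_eq fun r => rfl
  have : Module.Finite R₀ A := Module.Finite.of_restrictScalars_finite R R₀ A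
  have hf : Module.Flat R₀ A := flat_of_finite_aux (R := R₀) (A := A) Subtype.val_injective
  have : Module.Flat R R₀ := by
    let l : R ≃ₗ[R] R₀ := LinearEquiv.ofBijective (Algebra.linearMap R R₀) e.bijective
    exact Module.Flat.of_linearEquiv l.symm
  exact Module.Flat.trans R R₀ A

theorem free_of_finite {R : Type u} {A : Type v} [CommRing R] [CommRing A] [IsRegularLocalRing R]
    [IsRegularLocalRing A] [Algebra R A] [Module.Finite R A]
    (hinj : Function.Injective (algebraMap R A)) : Module.Free R A := by
  have := flat_of_finite hinj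
  exact Module.free_of_flat_of_isLocalRing

end K874.Miracle
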