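import Groth.Agent.WildQuot.K874.GalCrit
import Groth.Agent.S0565
import Mathlib.RingTheory.Localization.BaseChange
import Mathlib.RingTheory.Localization.LocalizationLocalization
import Mathlib.RingTheory.Localization.AtPrime.Basic
import Mathlib.RingTheory.Flat.FaithfullyFlat.Basic
import Mathlib.RingTheory.Flat.FaithfullyFlat.Algebra
import Mathlib.RingTheory.Flat.Localization
import Mathlib.Algebra.Module.Projective
import Mathlib.RingTheory.RegularLocalRing.Defs

/-!
# Trivial inertia over `q`: `A_q` is projective over `R_q`, and `R_q` is regular if `A_q` is.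
-/

set_option autoImplicit false
universe u v w

namespace K874.GalFlat

open TensorProduct

section trace

variable {R A G : Type*} [CommRing R] [CommRing A] [Algebra R A]
  [Group G] [Finite G] [MulSemiringAction G A] [SMulCommClass G R A]

/-- Data: the invariants are `R`. -/
theorem exists_trace (hinj : Function.Injective (algebraMap R A))
    (hfix : ∀ a : A, (∀ g : G, g • a = a) → a ∈ Set.range (algebraMap R A)) :
    ∃ tr : A →ₗ[R] R, ∀ a : A, algebraMap R A (tr a) = ∑ᶠ g : G, g • a := by
  classical
  have := Fintype.ofFinite G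
  have h1 : ∀ a : A, ∃ r : R, algebraMap R A r = ∑ g : G, g • a := by
    intro a
    apply hfix
    intro h
    rw [Finset.smul_sum]
    simp_rw [← mul_smul]
    exact Fintype.sum_equiv (Equiv.mulLeft h) _ _ fun g => rfl
  choose tr htr using h1
  refine ⟨{ toFun := tr, map_add' := ?_, map_smul' := ?_ }, ?_⟩
  · intro a b
    apply hinj
    rw [map_add, htr, htr, htr, ← Finset.sum_add_distrib]
    simp_rw [smul_add]
  · intro r a
    apply hinj
    rw [RingHom.id_apply, smul_eq_mul, map_mul, htr, htr, Finset.mul_sum]
    refine Finset.sum_congr rfl fun g _ => ?_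
    rw [smul_comm g r a, Algebra.smul_def]
  · intro a
    rw [finsum_eq_sum_of_fintype]
    exact htr a

end trace

section proj

variable {R : Type u} {A : Type v} {G : Type w} [CommRing R] [CommRing A] [Algebra R A]
  [Algebra.IsIntegral R A] [Group G] [Finite G] [MulSemiringAction G A] [SMulCommClass G R A]

/-- The projectivity. -/
theorem projective (hinj : Function.Injective (algebraMap R A))
    (hfix : ∀ a : A, (∀ g : G, g • a = a) → a ∈ Set.range (algebraMap R A))
    (q : Ideal R) [q.IsPrime]
    (h : ∀ Q : Ideal A, Q.IsPrime → Q.comap (algebraMap R A) = q → Q.inertia G = ⊥) :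
    Module.Projective (Localization.AtPrime q) (Localization.AtPrime q ⊗[R] A) ∧
    Module.Finite (Localization.AtPrime q) (Localization.AtPrime q ⊗[R] A) := by
  classical
  have := Fintype.ofFinite G
  obtain ⟨tr, htr⟩ := exists_trace (G := G) hinj hfix
  obtain ⟨s, hs, n, x, y, hxy⟩ := GalCrit.exists_dual (G := G) q h
  -- the two maps
  let τ : A →ₗ[R] (Fin n → R) := LinearMap.pi fun k => tr ∘ₗ LinearMap.mulLeft R (y k)
  let ξ : (Fin n → R) →ₗ[R] A := Fintype.linearCombination R x
  have hcomp : ξ ∘ₗ τ = s • LinearMap.id := by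
    ext a
    change ∑ k, (tr (y k * a)) • x k = s • a
    have h1 : ∀ k, (tr (y k * a)) • x k = ∑ g : G, (g • a) * (x k * (g • y k)) := by
      intro k
      rw [Algebra.smul_def, htr, finsum_eq_sum_of_fintype, Finset.sum_mul]
      refine Finset.sum_congr rfl fun g _ => ?_
      rw [smul_mul']
      ring
    rw [Finset.sum_congr rfl fun k _ => h1 k, Finset.sum_comm]
    simp_rw [← Finset.mul_sum]
    rw [Finset.sum_eq_single (1 : G)]
    · rw [(hxy 1).1 rfl, one_smul, mul_comm, Algebra.smul_def]
    · intro g _ hg
      rw [(hxy g).2 hg, mul_zero]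
    · intro h
      exact absurd (Finset.mem_univ _) h
  let R' := Localization.AtPrime q
  obtain ⟨s', hs'⟩ : ∃ s' : R', s' * algebraMap R R' s = 1 :=
    (IsLocalization.map_units R' (⟨s, hs⟩ : q.primeCompl)).exists_left_inv
  let τ' : R' ⊗[R] A →ₗ[R'] R' ⊗[R] (Fin n → R) := τ.baseChange R'
  let ξ' : R' ⊗[R] (Fin n → R) →ₗ[R'] R' ⊗[R] A := s' • ξ.baseChange R'
  have hcomp' : ξ' ∘ₗ τ' = LinearMap.id := by
    have h1 : (ξ.baseChange R') ∘ₗ (τ.baseChange R') = (s • LinearMap.id : R' ⊗[R] A →ₗ[R'] R' ⊗[R] A) := by
      rw [← LinearMap.baseChange_comp, hcomp, LinearMap.baseChange_smul, LinearMap.baseChange_id]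
    change (s' • ξ.baseChange R') ∘ₗ (τ.baseChange R') = LinearMap.id
    rw [LinearMap.smul_comp, h1]
    ext a
    change s' • (s • ((1 : R') ⊗ₜ[R] a)) = (1 : R') ⊗ₜ[R] a
    rw [← IsScalarTower.algebraMap_smul R' s, smul_smul, hs', one_smul]
  refine ⟨Module.Projective.of_split τ' ξ' hcomp', ?_⟩
  apply Module.Finite.of_surjective ξ'
  intro z
  exact ⟨τ' z, LinearMap.congr_fun hcomp' z⟩

end proj

section reg

theorem descend {R' A' : Type u} [CommRing R'] [IsLocalRing R'] [CommRing A']
    [Algebra R' A'] [Module.Flat R' A'] (Q' : Ideal A') [Q'.IsPrime] (L : Type u) [CommRing L]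
    [Algebra A' L] [IsLocalization.AtPrime L Q'] [IsRegularLocalRing L]
    (hQ'c : Q'.comap (algebraMap R' A') = IsLocalRing.maximalIdeal R') :
    IsRegularLocalRing R' := by
  let : Algebra R' L := ((algebraMap A' L).comp (algebraMap R' A')).toAlgebra
  have hst : IsScalarTower R' A' L := IsScalarTower.of_algebraMap_eq' rfl
  have hflatL : Module.Flat A' L := IsLocalization.flat L Q'.primeCompl
  have hflat : Module.Flat R' L := Module.Flat.trans R' A' L
  have hloc : IsLocalHom (algebraMap R' L) := by
    constructor
    intro a ha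
    by_contra hna
    have h1 : a ∈ IsLocalRing.maximalIdeal R' := hna
    rw [← hQ'c] at h1
    have h2 : algebraMap A' L (algebraMap R' A' a) ∈ IsLocalRing.maximalIdeal L := by
      have h3 := IsLocalization.AtPrime.under_maximalIdeal L Q'
      change algebraMap R' A' a ∈ Ideal.under A' (IsLocalRing.maximalIdeal L)
      rw [h3]
      exact h1
    exact h2 ha
  have hff : Module.FaithfullyFlat R' L := Module.FaithfullyFlat.of_flat_of_isLocalHom
  have hnoeth : IsNoetherianRing R' := by
    have h1 : IsNoetherian L (L ⊗[R'] R') := by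
      have : IsNoetherian L L := inferInstanceAs (IsNoetherianRing L)
      exact isNoetherian_of_linearEquiv (TensorProduct.AlgebraTensorModule.rid R' L L).symm
    exact Submodule.IsNoetherian.of_isNoetherian_tensorProduct_of_faithfullyFlat h1
  exact Groth.Agent.S0565.result R' L

variable {R A : Type u} {G : Type w} [CommRing R] [CommRing A] [Algebra R A]
  [Algebra.IsIntegral R A] [Group G] [Finite G] [MulSemiringAction G A] [SMulCommClass G R A]

attribute [local instance] Algebra.TensorProduct.rightAlgebra in
/-- The descent of regularity. -/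
theorem isRegularLocalRing (hinj : Function.Injective (algebraMap R A))
    (hfix : ∀ a : A, (∀ g : G, g • a = a) → a ∈ Set.range (algebraMap R A))
    (q : Ideal R) [q.IsPrime]
    (h : ∀ Q : Ideal A, Q.IsPrime → Q.comap (algebraMap R A) = q → Q.inertia G = ⊥)
    (hreg : ∀ (Q : Ideal A) [Q.IsPrime], Q.comap (algebraMap R A) = q →
      IsRegularLocalRing (Localization.AtPrime Q)) :
    IsRegularLocalRing (Localization.AtPrime q) := by
  obtain ⟨hproj, hfin⟩ := projective (G := G) hinj hfix q h
  let R' := Localization.AtPrime q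
  let A' := R' ⊗[R] A
  have hint' : Algebra.IsIntegral R' A' := inferInstance
  have hinj' : Function.Injective (algebraMap R' A') := by
    have h1 : Function.Injective (LinearMap.lTensor R' (Algebra.linearMap R A)) :=
      Module.Flat.lTensor_preserves_injective_linearMap _ hinj
    intro a b hab
    have h2 : a ⊗ₜ[R] (1 : R) = b ⊗ₜ[R] (1 : R) := by
      apply h1
      rw [LinearMap.lTensor_tmul, LinearMap.lTensor_tmul, Algebra.linearMap_apply, map_one]
      exact hab
    have h3 := congrArg (TensorProduct.rid R R') h2
    simpa using h3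
  obtain ⟨Q', -, hQ'm, hQ'c⟩ : ∃ Q' ≥ (⊥ : Ideal A'), Q'.IsPrime ∧
      Q'.comap (algebraMap R' A') = IsLocalRing.maximalIdeal R' :=
    Ideal.exists_ideal_over_prime_of_isIntegral (IsLocalRing.maximalIdeal R') ⊥ (by
      change RingHom.ker (algebraMap R' A') ≤ _
      rw [(RingHom.injective_iff_ker_eq_bot _).mp hinj']
      exact bot_le)
  let L := Localization.AtPrime Q'
  have hlocL : IsLocalization.AtPrime L (Q'.comap (algebraMap A A')) := by
    have : IsLocalization (Algebra.algebraMapSubmonoid A q.primeCompl) A' :=
      IsLocalization.tensorRight (S := A) (A := R') q.primeCompl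
    exact IsLocalization.isLocalization_isLocalization_atPrime_isLocalization
      (Algebra.algebraMapSubmonoid A q.primeCompl) L Q'
  have hover : (Q'.comap (algebraMap A A')).comap (algebraMap R A) = q := by
    rw [Ideal.comap_comap]
    have h1 : (algebraMap A A').comp (algebraMap R A) = (algebraMap R' A').comp (algebraMap R R') := by
      ext r
      change (1 : R') ⊗ₜ[R] (algebraMap R A r) = (algebraMap R R' r) ⊗ₜ[R] (1 : A)
      rw [Algebra.algebraMap_eq_smul_one, Algebra.algebraMap_eq_smul_one, TensorProduct.smul_tmul]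
    rw [h1, ← Ideal.comap_comap, hQ'c]
    exact IsLocalization.AtPrime.under_maximalIdeal R' q
  have hregL : IsRegularLocalRing L := by
    have h1 := hreg (Q'.comap (algebraMap A A')) hover
    exact IsRegularLocalRing.of_ringEquiv
      (IsLocalization.algEquiv (Q'.comap (algebraMap A A')).primeCompl
        (Localization.AtPrime (Q'.comap (algebraMap A A'))) L).toRingEquiv
  exact descend Q' L hQ'c

end reg

end K874.GalFlat
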