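import Groth.Agent.WildQuot.K874.CodimIso
import Mathlib.AlgebraicGeometry.Morphisms.Finite
import Mathlib.AlgebraicGeometry.Morphisms.IsIso
import Mathlib.AlgebraicGeometry.Morphisms.AffineAnd
import Mathlib.AlgebraicGeometry.Morphisms.Flat
import Mathlib.AlgebraicGeometry.Noetherian
import Mathlib.AlgebraicGeometry.Properties

/-!
# A morphism of finite flat schemes which is an isomorphism in codimension `≤ 1`
-/

set_option autoImplicit false
universe u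
open CategoryTheory CategoryTheory.Limits AlgebraicGeometry Opposite TopologicalSpace

namespace K874.CodimIsoSch

theorem exists_opens_eq {X : Scheme.{u}} (U V : X.Opens) (hVU : V ≤ U) :
    ∃ V' : U.toScheme.Opens, U.ι ''ᵁ V' = V := by
  refine ⟨U.ι ⁻¹ᵁ V, ?_⟩
  rw [Scheme.Hom.image_preimage_eq_opensRange_inf, Scheme.Opens.opensRange_ι]
  exact inf_eq_right.mpr hVU

/-- A morphism that is an isomorphism over `U` is bijective on sections over opens of `U`. -/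
theorem app_bijective {X Y : Scheme.{u}} (f : Y ⟶ X) (U : X.Opens) [IsIso (f ∣_ U)]
    (V : X.Opens) (hVU : V ≤ U) : Function.Bijective (f.app V).hom := by
  obtain ⟨V', rfl⟩ := exists_opens_eq U V hVU
  have h1 : Function.Bijective ((f ∣_ U).app V') := ConcreteCategory.bijective_of_isIso _
  rw [morphismRestrict_app] at h1
  have h2 : Function.Bijective (Y.presheaf.map (eqToHom (image_morphismRestrict_preimage f U V')).op) :=
    ConcreteCategory.bijective_of_isIso _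
  have h3 : Function.Bijective ((Y.presheaf.map (eqToHom (image_morphismRestrict_preimage f U V')).op).hom ∘
    (f.app (U.ι ''ᵁ V')).hom) := h1
  exact (Function.Bijective.of_comp_iff' h2 _).mp h3

theorem isIso_morphismRestrict {X Y : Scheme.{u}} (f : X ⟶ Y) (U : Y.Opens)
    (hU : IsAffineOpen U) (hfU : IsAffineOpen (f ⁻¹ᵁ U)) (h : IsIso (f.app U)) :
    IsIso (f ∣_ U) := by
  have : IsAffine (U : Scheme) := hU
  have h2 : IsIso (f.app (U.ι ''ᵁ ⊤)) := by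
    rw [Scheme.Opens.ι_image_top]
    exact h
  refine (HasAffineProperty.iff_of_isAffine
    (P := MorphismProperty.isomorphisms Scheme.{u})).mpr ⟨hfU, ?_⟩
  rw [morphismRestrict_appTop]
  exact IsIso.comp_isIso' h2 (Functor.map_isIso _ _)

variable {X Y S : Scheme.{u}}

/-- surjectivity up to powers of `r` -/
theorem exists_app_eq (ψ : X ⟶ Y) (U W : Y.Opens) (hW : IsAffineOpen W)
    (hW' : IsAffineOpen (ψ ⁻¹ᵁ W)) [IsIso (ψ ∣_ U)] (r : Γ(Y, W)) (hr : Y.basicOpen r ≤ U)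
    (y : Γ(X, ψ ⁻¹ᵁ W)) : ∃ (n : ℕ) (x : Γ(Y, W)), ψ.app W x = ψ.app W r ^ n * y := by
  have hb := app_bijective ψ U _ hr
  have hpre : ψ ⁻¹ᵁ Y.basicOpen r = X.basicOpen (ψ.app W r) := Scheme.preimage_basicOpen _ _
  let i : ψ ⁻¹ᵁ Y.basicOpen r ⟶ ψ ⁻¹ᵁ W := (Opens.map ψ.base).map (homOfLE (Y.basicOpen_le r))
  obtain ⟨z, hz⟩ := hb.2 (X.presheaf.map i.op y)
  obtain ⟨n, x, hx⟩ := exists_eq_pow_mul_of_isAffineOpen Y W hW r z
  have hnat (t : Γ(Y, W)) : (ψ.app (Y.basicOpen r)).hom (Y.presheaf.map (homOfLE (Y.basicOpen_le r)).op t) =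
      X.presheaf.map i.op (ψ.app W t) :=
    congr($(ψ.naturality (homOfLE (Y.basicOpen_le r)).op) t)
  have h1 : X.presheaf.map i.op (ψ.app W x) = X.presheaf.map i.op (ψ.app W r ^ n * y) := by
    rw [← hnat, map_mul, map_pow, ← hnat, ← hz, ← map_pow, ← map_mul]
    exact congrArg _ hx
  let := (X.presheaf.map i.op).hom.toAlgebra
  have h2 : IsLocalization.Away (ψ.app W r) Γ(X, ψ ⁻¹ᵁ Y.basicOpen r) :=
    hW'.isLocalization_of_eq_basicOpen _ i hpre
  obtain ⟨⟨_, m, rfl⟩, hm⟩ := IsLocalization.exists_of_eq (M := Submonoid.powers (ψ.app W r)) h1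
  refine ⟨m + n, r ^ m * x, ?_⟩
  rw [map_mul, map_pow, pow_add, mul_assoc]
  exact hm

theorem pow_mul_eq_zero (ψ : X ⟶ Y) (U W : Y.Opens) (hW : IsAffineOpen W)
    [IsIso (ψ ∣_ U)] (r : Γ(Y, W)) (hr : Y.basicOpen r ≤ U)
    (x : Γ(Y, W)) (hx : ψ.app W x = 0) : ∃ n : ℕ, r ^ n * x = 0 := by
  have hb := app_bijective ψ U _ hr
  apply exists_pow_mul_eq_zero_of_res_basicOpen_eq_zero_of_isAffineOpen Y hW
  apply hb.1
  rw [map_zero]
  have h2 : (ψ.app (Y.basicOpen r)).hom (Y.presheaf.map (homOfLE (Y.basicOpen_le r)).op x) =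
      X.presheaf.map ((TopologicalSpace.Opens.map ψ.base).map (homOfLE (Y.basicOpen_le r))).op ((ψ.app W).hom x) :=
    congr($(ψ.naturality (homOfLE (Y.basicOpen_le r)).op) x)
  have h3 : (ψ.app W).hom x = 0 := hx
  rw [h3, map_zero] at h2
  exact h2

/-- `ψ` is bijective on sections over the inverse image of an affine open -/
theorem isIso_app (ψ : X ⟶ Y) (g : Y ⟶ S) [IsLocallyNoetherian S] [AlgebraicGeometry.IsFinite g]
    [Flat g] [AlgebraicGeometry.IsFinite (ψ ≫ g)] [Flat (ψ ≫ g)] (U : S.Opens)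
    (hU : ∀ s : S, ringKrullDim (S.presheaf.stalk s) ≤ 1 → s ∈ U) [IsIso (ψ ∣_ g ⁻¹ᵁ U)]
    (V : S.Opens) (hV : IsAffineOpen V) : IsIso (ψ.app (g ⁻¹ᵁ V)) := by
  have hW : IsAffineOpen (g ⁻¹ᵁ V) := hV.preimage g
  have hW' : IsAffineOpen (ψ ⁻¹ᵁ g ⁻¹ᵁ V) := hV.preimage (ψ ≫ g)
  have hN : IsNoetherianRing Γ(S, V) := IsLocallyNoetherian.component_noetherian ⟨V, hV⟩
  let _ : Algebra Γ(S, V) Γ(Y, g ⁻¹ᵁ V) := (g.app V).hom.toAlgebra
  let _ : Algebra Γ(S, V) Γ(X, ψ ⁻¹ᵁ g ⁻¹ᵁ V) := ((ψ ≫ g).app V).hom.toAlgebra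
  have h1 : Module.Finite Γ(S, V) Γ(Y, g ⁻¹ᵁ V) := g.finite_app V hV
  have h2 : Module.Finite Γ(S, V) Γ(X, ψ ⁻¹ᵁ g ⁻¹ᵁ V) := (ψ ≫ g).finite_app V hV
  have h3 : Module.Flat Γ(S, V) Γ(Y, g ⁻¹ᵁ V) := by
    have := g.flat_appLE hV hW le_rfl
    rwa [← Scheme.Hom.app_eq_appLE] at this
  have h4 : Module.Flat Γ(S, V) Γ(X, ψ ⁻¹ᵁ g ⁻¹ᵁ V) := by
    have := (ψ ≫ g).flat_appLE hV (V := (ψ ≫ g) ⁻¹ᵁ V) hW' le_rfl
    rwa [← Scheme.Hom.app_eq_appLE] at this
  have h5 : Module.FinitePresentation Γ(S, V) Γ(Y, g ⁻¹ᵁ V) :=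
    Module.finitePresentation_of_finite _ _
  have h6 : Module.FinitePresentation Γ(S, V) Γ(X, ψ ⁻¹ᵁ g ⁻¹ᵁ V) :=
    Module.finitePresentation_of_finite _ _
  have h7 : Module.Projective Γ(S, V) Γ(Y, g ⁻¹ᵁ V) := Module.Flat.projective_of_finitePresentation
  have h8 : Module.Projective Γ(S, V) Γ(X, ψ ⁻¹ᵁ g ⁻¹ᵁ V) :=
    Module.Flat.projective_of_finitePresentation
  have hcomp (r : Γ(S, V)) : ψ.app (g ⁻¹ᵁ V) (g.app V r) = (ψ ≫ g).app V r := by
    rw [Scheme.Hom.comp_app]; rfl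
  let φ : Γ(Y, g ⁻¹ᵁ V) →ₗ[Γ(S, V)] Γ(X, ψ ⁻¹ᵁ g ⁻¹ᵁ V) :=
    { toFun := ψ.app (g ⁻¹ᵁ V)
      map_add' := map_add _
      map_smul' := fun r x => by
        rw [RingHom.id_apply, Algebra.smul_def, Algebra.smul_def, map_mul]
        exact congrArg (· * _) (hcomp r) }
  have key : Function.Bijective φ := by
    refine CodimIso.bijective_of_projective φ fun q hq hh => ?_
    have hmem : hV.fromSpec ⟨q, hq⟩ ∈ V := by
      have : hV.fromSpec ⟨q, hq⟩ ∈ hV.fromSpec.opensRange := ⟨_, rfl⟩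
      rwa [hV.opensRange_fromSpec] at this
    have hdim : ringKrullDim (S.presheaf.stalk (hV.fromSpec ⟨q, hq⟩)) ≤ 1 := by
      let := (TopCat.Presheaf.algebra_section_stalk S.presheaf ⟨hV.fromSpec ⟨q, hq⟩, hmem⟩)
      have : IsLocalization.AtPrime (S.presheaf.stalk (hV.fromSpec ⟨q, hq⟩)) q :=
        hV.isLocalization_stalk' ⟨q, hq⟩ hmem
      rw [IsLocalization.AtPrime.ringKrullDim_eq_height q]
      exact_mod_cast hh
    obtain ⟨r, hr, hr'⟩ := hV.exists_basicOpen_le ⟨_, hU _ hdim⟩ hmem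
    have hrq : r ∉ q := by
      have h9 : (⟨q, hq⟩ : PrimeSpectrum Γ(S, V)) ∈ hV.fromSpec ⁻¹ᵁ S.basicOpen r := hr'
      rw [hV.fromSpec_preimage_basicOpen] at h9
      exact h9
    have hle : Y.basicOpen (g.app V r) ≤ g ⁻¹ᵁ U := by
      rw [← Scheme.preimage_basicOpen]
      exact fun x hx => hr hx
    constructor
    · intro y
      obtain ⟨n, x, hx⟩ := exists_app_eq ψ (g ⁻¹ᵁ U) (g ⁻¹ᵁ V) hW hW' _ hle y
      refine ⟨r ^ n, fun h => hrq (hq.mem_of_pow_mem n h), x, ?_⟩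
      rw [Algebra.smul_def, map_pow]
      refine hx.trans ?_
      rw [hcomp]; rfl
    · intro x hx
      obtain ⟨n, hn⟩ := pow_mul_eq_zero ψ (g ⁻¹ᵁ U) (g ⁻¹ᵁ V) hW _ hle x hx
      refine ⟨r ^ n, fun h => hrq (hq.mem_of_pow_mem n h), ?_⟩
      rw [Algebra.smul_def, map_pow]
      exact hn
  exact (ConcreteCategory.isIso_iff_bijective _).mpr key

theorem isIso_of_codimOne (ψ : X ⟶ Y) (g : Y ⟶ S) [IsLocallyNoetherian S]
    [AlgebraicGeometry.IsFinite g]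
    [Flat g] [AlgebraicGeometry.IsFinite (ψ ≫ g)] [Flat (ψ ≫ g)] (U : S.Opens)
    (hU : ∀ s : S, ringKrullDim (S.presheaf.stalk s) ≤ 1 → s ∈ U) [IsIso (ψ ∣_ g ⁻¹ᵁ U)] :
    IsIso ψ := by
  refine (IsZariskiLocalAtTarget.iff_of_iSup_eq_top (P := MorphismProperty.isomorphisms Scheme.{u})
    (fun V : S.affineOpens => g ⁻¹ᵁ V.1) ?_).mpr fun V => ?_
  · rw [eq_top_iff]
    intro y _
    obtain ⟨V, hV, hy, -⟩ := exists_isAffineOpen_mem_and_subset (x := g y) (U := ⊤) trivial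
    exact TopologicalSpace.Opens.mem_iSup.mpr ⟨⟨V, hV⟩, hy⟩
  · exact isIso_morphismRestrict ψ _ (V.2.preimage g) (V.2.preimage (ψ ≫ g))
      (isIso_app ψ g U hU V.1 V.2)

theorem ringKrullDim_stalk_fromSpec {V : S.Opens} (hV : IsAffineOpen V) (q : PrimeSpectrum Γ(S, V)) :
    ringKrullDim (S.presheaf.stalk (hV.fromSpec q)) = q.asIdeal.height := by
  have hmem : hV.fromSpec q ∈ V := by
    have : hV.fromSpec q ∈ hV.fromSpec.opensRange := ⟨_, rfl⟩
    rwa [hV.opensRange_fromSpec] at this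
  let := (TopCat.Presheaf.algebra_section_stalk S.presheaf ⟨hV.fromSpec q, hmem⟩)
  have : IsLocalization.AtPrime (S.presheaf.stalk (hV.fromSpec q)) q.asIdeal :=
    hV.isLocalization_stalk' q hmem
  rw [IsLocalization.AtPrime.ringKrullDim_eq_height q.asIdeal]

/-- a point of a scheme is a specialization of a point of codimension `0` -/
theorem exists_specializes (s : S) : ∃ t : S, t ⤳ s ∧ ringKrullDim (S.presheaf.stalk t) ≤ 0 := by
  obtain ⟨V, hV, hs, -⟩ := exists_isAffineOpen_mem_and_subset (x := s) (U := ⊤) trivial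
  let p := hV.primeIdealOf ⟨s, hs⟩
  obtain ⟨q, hq, hqp⟩ := Ideal.exists_minimalPrimes_le (I := ⊥) (J := p.asIdeal) bot_le
  have hqm : q ∈ minimalPrimes Γ(S, V) := hq
  have hqP : q.IsPrime := hqm.isPrime
  refine ⟨hV.fromSpec ⟨q, hqP⟩, ?_, ?_⟩
  · have h1 : (⟨q, hqP⟩ : PrimeSpectrum Γ(S, V)) ⤳ p := (PrimeSpectrum.le_iff_specializes _ _).mp hqp
    have h2 := h1.map hV.fromSpec.continuous
    rwa [show hV.fromSpec p = s from hV.fromSpec_primeIdealOf ⟨s, hs⟩] at h2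
  · rw [ringKrullDim_stalk_fromSpec]
    have : q.height = 0 := Ideal.height_eq_zero_iff.mpr hqm
    simp [this]

theorem surjective_of_codimOne (g : Y ⟶ S) [AlgebraicGeometry.IsFinite g]
    (hU : ∀ s : S, ringKrullDim (S.presheaf.stalk s) ≤ 1 → s ∈ Set.range g.base) :
    Function.Surjective g.base := by
  intro s
  obtain ⟨t, ht, hdim⟩ := exists_specializes s
  have h1 : IsClosed (Set.range g.base) := g.isClosedMap.isClosed_range
  exact ht.mem_closed h1 (hU t (hdim.trans (by norm_num)))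

theorem isIso_restrict_of_forall (ψ : X ⟶ Y) (W : Y.Opens)
    (h : ∀ y ∈ W, ∃ U : Y.Opens, y ∈ U ∧ U ≤ W ∧ IsIso (ψ ∣_ U)) : IsIso (ψ ∣_ W) := by
  refine IsZariskiLocalAtTarget.of_forall_exists_morphismRestrict
    (P := MorphismProperty.isomorphisms Scheme.{u}) fun y => ?_
  obtain ⟨U, hy, hU, hi⟩ := h y.1 y.2
  refine ⟨W.ι ⁻¹ᵁ U, hy, ?_⟩
  refine (MorphismProperty.arrow_mk_iso_iff (MorphismProperty.isomorphisms Scheme.{u})
    (morphismRestrictRestrict ψ W (W.ι ⁻¹ᵁ U))).mpr ?_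
  have h1 : W.ι ''ᵁ (W.ι ⁻¹ᵁ U) = U := by
    rw [Scheme.Hom.image_preimage_eq_opensRange_inf, Scheme.Opens.opensRange_ι]
    exact inf_eq_right.mpr hU
  rw [h1]
  exact hi

end K874.CodimIsoSch
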