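import Groth.Agent.WildQuot.K874.ProdFree
import Groth.Agent.CurvesC.RegNormal
import Mathlib.FieldTheory.Galois.IsGaloisGroup
import Mathlib.GroupTheory.NoncommPiCoprod
import Mathlib.RingTheory.Ideal.Height

/-!
# Generation of `A` by the invariant subrings (S15812)
-/

set_option autoImplicit false
universe u v w

namespace K874.ProdMain

open scoped Pointwise

section group

variable {H : Type*} [Group H] [Finite H] (hcomm : ∀ g h : H, g * h = h * g) {p n : ℕ}
  (hcard : Nat.card H = p ^ n) (Gi : Fin n → Subgroup H)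
  (hGi : ∀ i, Nat.card (Gi i) = p) (hsup : (⨆ i, Gi i) = ⊤)

include hcomm hcard hGi hsup in
theorem disj (i : Fin n) (h : H) (hh : h ∈ Gi i)
    (hN : h ∈ (⨆ j ∈ (Finset.univ.erase i : Finset (Fin n)), Gi j : Subgroup H)) : h = 1 := by
  classical
  have hc : Pairwise fun i j : Fin n => ∀ x y : H, x ∈ Gi i → y ∈ Gi j → Commute x y :=
    fun i j _ x y _ _ => hcomm x y
  let φ : (∀ i, Gi i) →* H := Subgroup.noncommPiCoprod hc
  have hsurj : Function.Surjective φ := by
    rw [← MonoidHom.range_eq_top]
    rw [Subgroup.noncommPiCoprod_range, hsup]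
  have hbij : Function.Bijective φ := by
    apply hsurj.bijective_of_nat_card_le
    rw [Nat.card_pi, hcard, Finset.prod_congr rfl (fun i _ => hGi i)]
    simp
  let e : (∀ i, Gi i) ≃* H := MulEquiv.ofBijective φ hbij
  let ψ : H →* Gi i := (Pi.evalMonoidHom (fun j => Gi j) i).comp e.symm.toMonoidHom
  have hψ : ∀ (j : Fin n) (x : H) (hx : x ∈ Gi j), ψ x = (Pi.mulSingle j (⟨x, hx⟩ : Gi j) : ∀ j, Gi j) i := by
    intro j x hx
    change e.symm x i = _
    have h1 : e.symm x = Pi.mulSingle j (⟨x, hx⟩ : Gi j) := by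
      rw [MulEquiv.symm_apply_eq]
      have h2 : φ (Pi.mulSingle j (⟨x, hx⟩ : Gi j)) = x :=
        Subgroup.noncommPiCoprod_mulSingle (hcomm := hc) j ⟨x, hx⟩
      exact h2.symm
    rw [h1]
  have h1 : (⨆ j ∈ (Finset.univ.erase i : Finset (Fin n)), Gi j : Subgroup H) ≤ ψ.ker := by
    refine iSup₂_le fun j hj x hx => ?_
    rw [MonoidHom.mem_ker, hψ j x hx, Pi.mulSingle_eq_of_ne (Finset.ne_of_mem_erase hj).symm]
  have h2 := h1 hN
  rw [MonoidHom.mem_ker, hψ i h hh, Pi.mulSingle_eq_same] at h2
  exact congrArg Subtype.val h2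

include hcomm hGi hsup in
theorem card_quot_le (i : Fin n) :
    Nat.card (H ⧸ (⨆ j ∈ (Finset.univ.erase i : Finset (Fin n)), Gi j : Subgroup H)) ≤ p := by
  classical
  set N : Subgroup H := ⨆ j ∈ (Finset.univ.erase i : Finset (Fin n)), Gi j with hN
  have htop : Gi i ⊔ N = ⊤ := by
    rw [eq_top_iff, ← hsup]
    refine iSup_le fun j => ?_
    by_cases hj : j = i
    · subst hj; exact le_sup_left
    · refine le_trans ?_ le_sup_right
      rw [hN]
      exact le_iSup₂ (f := fun j (_ : j ∈ (Finset.univ.erase i : Finset (Fin n))) => Gi j) j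
        (Finset.mem_erase.mpr ⟨hj, Finset.mem_univ _⟩)
  have hnorm : N.Normal := ⟨fun a ha g => by
    rw [hcomm g a, mul_inv_cancel_right]; exact ha⟩
  have hsurj : Function.Surjective (fun g : Gi i => (QuotientGroup.mk (g : H) : H ⧸ N)) := by
    intro x
    obtain ⟨h, rfl⟩ := QuotientGroup.mk_surjective x
    have hh : h ∈ Gi i ⊔ N := by rw [htop]; trivial
    obtain ⟨g, hg, m, hm, rfl⟩ := Subgroup.mem_sup_of_normal_right.mp hh
    refine ⟨⟨g, hg⟩, ?_⟩
    rw [QuotientGroup.eq]
    simpa using hm
  rw [← hGi i]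
  exact Nat.card_le_card_of_surjective _ hsurj

end group

section galois

variable {R A H : Type*} [CommRing R] [CommRing A] [IsDomain A] [Algebra R A]
    [Group H] [Finite H] [MulSemiringAction H A] [SMulCommClass H R A]
    [FaithfulSMul H A]

omit [IsDomain A] [Finite H] in
theorem isGaloisGroup (hfix : ∀ a : A, (∀ h : H, h • a = a) → a ∈ Set.range (algebraMap R A)) :
    IsGaloisGroup H R A where
  faithful := inferInstance
  commutes := inferInstance
  isInvariant := ⟨fun a ha => hfix a ha⟩

theorem finrank_fixed (hinj : Function.Injective (algebraMap R A))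
    (hfix : ∀ a : A, (∀ h : H, h • a = a) → a ∈ Set.range (algebraMap R A))
    (N : Subgroup H) [N.Normal] :
    Module.finrank R (FixedPoints.subalgebra R A N) = Nat.card (H ⧸ N) := by
  have := isGaloisGroup (H := H) hfix
  let B := FixedPoints.subalgebra R A N
  let : MulSemiringAction H B := MulSemiringAction.compHom B (QuotientGroup.mk' N)
  have hsm : ∀ (h : H) (b : B), ((h • b : B) : A) = h • (b : A) := fun h b => rfl
  have h1 : SMulDistribClass H B A := by
    constructor
    intro g b a
    change g • ((b : A) * a) = ((g • b : B) : A) * (g • a)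
    rw [smul_mul', hsm]
  have h2 : IsScalarTower H (H ⧸ N) B := by
    constructor
    intro h g b
    obtain ⟨g, rfl⟩ := QuotientGroup.mk_surjective g
    apply Subtype.ext
    change ((h * g) • (b : A)) = h • (g • (b : A))
    rw [mul_smul]
  have hfaR : FaithfulSMul R A := (faithfulSMul_iff_algebraMap_injective R A).mpr hinj
  have hfa1 : FaithfulSMul R B := (faithfulSMul_iff_algebraMap_injective R B).mpr
    (fun x y hxy => hinj (congrArg Subtype.val hxy))
  have hfa2 : FaithfulSMul B A := (faithfulSMul_iff_algebraMap_injective B A).mpr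
    Subtype.val_injective
  have hN : IsGaloisGroup N B A := by
    refine ⟨inferInstance, ?_, ⟨fun a ha => ⟨⟨a, ha⟩, rfl⟩⟩⟩
    constructor
    intro n b a
    change n • ((b : A) * a) = (b : A) * n • a
    rw [smul_mul', b.2 n]
  have h3 : IsGaloisGroup (H ⧸ N) R B := IsGaloisGroup.quotient H R B A N
  exact (IsGaloisGroup.card_eq_finrank' (H ⧸ N) R B).symm

end galois

section height

theorem height_eq_one {R A : Type*} [CommRing R] [CommRing A] [IsDomain A] [Algebra R A]
    [Algebra.IsIntegral R A] (hinj : Function.Injective (algebraMap R A))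
    (q : Ideal R) (hq : q.height = 1) (P : Ideal A) [P.IsPrime] (hP : P.comap (algebraMap R A) = q) :
    P.height = 1 := by
  have hRdom : IsDomain R := hinj.isDomain _
  subst hP
  apply le_antisymm
  · rw [← hq]
    have h1 := Order.height_le_height_apply_of_strictMono
      (fun x : PrimeSpectrum A ↦ PrimeSpectrum.comap (algebraMap R A) x)
      (fun x y hxy => Ideal.IsIntegral.comap_lt_comap (R := R) (A := A) hxy)
      (⟨P, inferInstance⟩ : PrimeSpectrum A)
    rw [← PrimeSpectrum.height_eq_orderHeight, ← PrimeSpectrum.height_eq_orderHeight] at h1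
    exact h1
  · rw [Order.one_le_iff_ne_zero]
    intro h0
    rw [Ideal.height_eq_zero_iff_eq_bot] at h0
    subst h0
    have h1 : (⊥ : Ideal A).comap (algebraMap R A) = ⊥ := by
      change RingHom.ker (algebraMap R A) = ⊥
      exact (RingHom.injective_iff_ker_eq_bot _).mp hinj
    rw [h1, Ideal.height_bot] at hq
    exact zero_ne_one hq

end height

section main

theorem main {p : ℕ} {R : Type u} [CommRing R] [IsRegularLocalRing R]
    {A : Type v} [CommRing A] [IsDomain A] [Algebra R A] [Module.Finite R A]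
    (hinj : Function.Injective (algebraMap R A))
    {H : Type w} [Group H] [Finite H] [MulSemiringAction H A] [SMulCommClass H R A]
    [FaithfulSMul H A]
    (hfix : ∀ a : A, (∀ h : H, h • a = a) → a ∈ Set.range (algebraMap R A))
    (hcomm : ∀ g h : H, g * h = h * g)
    (n : ℕ) (hcard : Nat.card H = p ^ n) (Gi : Fin n → Subgroup H)
    (hGi : ∀ i, Nat.card (Gi i) = p) (hsup : (⨆ i, Gi i) = ⊤)
    (hMR3 : ∀ P : Ideal A, P.IsPrime → P.height = 1 → P.inertia H ≠ ⊥ → ∃ i, P.inertia H = Gi i)
    (hMR4 : ∀ i, Module.Free R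
      (FixedPoints.subalgebra R A ↥(⨆ j ∈ (Finset.univ.erase i : Finset (Fin n)), Gi j : Subgroup H))) :
    (⨆ i, FixedPoints.subalgebra R A
      ↥(⨆ j ∈ (Finset.univ.erase i : Finset (Fin n)), Gi j : Subgroup H)) = ⊤ := by
  classical
  have hRdom : IsDomain R := Groth.Agent.CurvesC.RegNormal.isDomain R
  have hRn : IsIntegrallyClosed R := Groth.Agent.CurvesC.RegNormal.isIntegrallyClosed R
  have hint : Algebra.IsIntegral R A := inferInstance
  have hsc : SMulCommClass H R A := inferInstance
  have hfaR : FaithfulSMul R A := (faithfulSMul_iff_algebraMap_injective R A).mpr hinj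
  have htf : Module.IsTorsionFree R A := inferInstance
  let N : Fin n → Subgroup H := fun i => ⨆ j ∈ (Finset.univ.erase i : Finset (Fin n)), Gi j
  have hGN : ∀ i j, i ≠ j → Gi j ≤ N i := fun i j hij =>
    le_iSup₂ (f := fun j (_ : j ∈ (Finset.univ.erase i : Finset (Fin n))) => Gi j) j
        (Finset.mem_erase.mpr ⟨hij.symm, Finset.mem_univ _⟩)
  have hdisj : ∀ i, ∀ h ∈ Gi i, h ∈ N i → h = 1 := fun i h hh hN =>
    disj hcomm hcard Gi hGi hsup i h hh hN
  have hnorm : ∀ i, (N i).Normal := fun i => ⟨fun a ha g => by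
    rw [hcomm g a, mul_inv_cancel_right]; exact ha⟩
  let B : Fin n → Subalgebra R A := fun i => FixedPoints.subalgebra R A ↥(N i)
  have hfree : ∀ i, Module.Free R (B i) := hMR4
  have hfin : ∀ i, Module.Finite R (B i) := fun i =>
    Module.Finite.of_injective (B i).val.toLinearMap Subtype.val_injective
  change (⨆ i, B i) = ⊤
  have hgal := isGaloisGroup (H := H) hfix
  have hrankA : Module.finrank R A = p ^ n := by
    rw [← hcard, IsGaloisGroup.card_eq_finrank' H R A]
  have hrankB : ∀ i, Module.finrank R (B i) ≤ p := by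
    intro i
    have := hnorm i
    rw [finrank_fixed hinj hfix (N i)]
    exact card_quot_le hcomm Gi hGi hsup i
  let b : ∀ i, Module.Basis (Fin (Module.finrank R (B i))) R (B i) := fun i => Module.finBasis R (B i)
  let e : (∀ i, Fin (Module.finrank R (B i))) → A := fun k => ∏ i, (b i (k i) : A)
  have hspan : Subalgebra.toSubmodule (⨆ i, B i) = Submodule.span R (Set.range e) := by
    apply le_antisymm
    · exact ProdFree.toSubmodule_iSup_le B _ (fun i => b i) (fun i => (b i).span_eq.ge)
    · rw [Submodule.span_le]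
      rintro _ ⟨k, rfl⟩
      exact Subalgebra.prod_mem _ fun i _ => (le_iSup B i) (b i (k i)).2
  have hcardle : Fintype.card (∀ i, Fin (Module.finrank R (B i))) ≤ Module.finrank R A := by
    rw [hrankA, Fintype.card_pi]
    simp_rw [Fintype.card_fin]
    calc ∏ i, Module.finrank R (B i) ≤ ∏ _i : Fin n, p :=
          Finset.prod_le_prod' fun i _ => hrankB i
      _ = p ^ n := by simp
  rw [eq_top_iff]
  intro t _
  rcases Nat.eq_zero_or_pos n with hn | hn
  · -- trivial group
    have h1 : Nat.card H = 1 := by rw [hcard, hn, pow_zero]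
    have h2 : Subsingleton H := (Nat.card_eq_one_iff_unique.mp h1).1
    obtain ⟨r, hr⟩ := hfix t (fun h => by rw [Subsingleton.elim h 1, one_smul])
    rw [← hr]
    exact Subalgebra.algebraMap_mem _ r
  · have htors : ∀ t : A, ∃ s : R, s ≠ 0 ∧ s • t ∈ Submodule.span R (Set.range e) := by
      intro t
      obtain ⟨s, hs, hst⟩ := ProdGen.exists_mul_mem Gi N hGN hdisj hcomm (⊥ : Ideal R) ⟨0, hn⟩ rfl (by
        intro i _ P hP hPq
        have hPbot : P = ⊥ := Ideal.eq_bot_of_comap_eq_bot hPq
        intro h hh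
        have : h = 1 := by
          apply FaithfulSMul.eq_of_smul_eq_smul (α := A)
          intro a
          have h1 : h • a - a ∈ P := hh a
          rw [hPbot, Ideal.mem_bot, sub_eq_zero] at h1
          rw [h1, one_smul]
        rw [this]
        exact (N i).one_mem) t
      refine ⟨s, fun h => hs (by rw [h]; exact Ideal.zero_mem _), ?_⟩
      rw [← hspan, Algebra.smul_def]
      exact hst
    have hind := ProdFree.linearIndependent_of_finrank e hcardle htors
    have hmem : t ∈ Submodule.span R (Set.range e) := by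
      apply ProdFree.mem_of_forall_height_one e hind t (htors t)
      intro q hq hq1
      -- the common inertia group
      obtain ⟨i₀, hi₀⟩ : ∃ i₀ : Fin n, ∀ i, i ≠ i₀ → ∀ P : Ideal A, P.IsPrime →
          P.comap (algebraMap R A) = q → P.inertia H ≤ N i := by
        by_cases hex : ∃ P : Ideal A, P.IsPrime ∧ P.comap (algebraMap R A) = q ∧ P.inertia H ≠ ⊥
        · obtain ⟨P, hP, hPq, hPin⟩ := hex
          obtain ⟨i₀, hi₀⟩ := hMR3 P hP (height_eq_one hinj q hq1 P hPq) hPin
          refine ⟨i₀, fun i hi P' hP' hP'q => ?_⟩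
          have hinv : Algebra.IsInvariant R A H := ⟨fun a ha => hfix a ha⟩
          obtain ⟨g, hg⟩ := Algebra.IsInvariant.exists_smul_of_under_eq R A H P P'
            (hPq.trans hP'q.symm)
          have h1 : P'.inertia H ≤ P.inertia H := by
            intro h hh a
            have h2 : h • (g • a) - g • a ∈ P' := hh (g • a)
            rw [hg, ← mul_smul, hcomm, mul_smul, ← smul_sub,
              Ideal.smul_mem_pointwise_smul_iff] at h2
            exact h2
          rw [hi₀] at h1
          exact h1.trans (hGN i i₀ hi)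
        · push Not at hex
          refine ⟨⟨0, hn⟩, fun i _ P hP hPq => ?_⟩
          rw [hex P hP hPq]
          exact bot_le
      obtain ⟨s, hs, hst⟩ := ProdGen.exists_mul_mem Gi N hGN hdisj hcomm q i₀ rfl hi₀ t
      refine ⟨s, hs, ?_⟩
      rw [← hspan, Algebra.smul_def]
      exact hst
    rw [← hspan] at hmem
    exact hmem

end main

end K874.ProdMain
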