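import Mathlib.RingTheory.PowerSeries.Order
import Mathlib.RingTheory.PowerSeries.Basic
import Mathlib.RingTheory.PowerSeries.Inverse
import Mathlib.RingTheory.PowerSeries.NoZeroDivisors
import Mathlib.Algebra.Algebra.Equiv
import Mathlib.Algebra.CharP.Defs
import Mathlib.Algebra.CharP.Lemmas

/-!
# Orders of `σ y - y` for an automorphism `σ` of `k⟦X⟧` of order `p`
-/

set_option autoImplicit false
universe u

namespace K874.OrderCalc

open PowerSeries

variable {k : Type u} [Field k]

/-- An automorphism keeps the residue map. -/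
theorem constantCoeff_apply (σ : PowerSeries k ≃ₐ[k] PowerSeries k) (w : PowerSeries k) :
    constantCoeff (σ w) = constantCoeff w := by
  by_contra hne
  -- `w - C (constantCoeff (σ w))` is a unit, its image is not
  set c := constantCoeff (σ w) with hc
  have h1 : IsUnit (w - C c) := by
    rw [isUnit_iff_constantCoeff, isUnit_iff_ne_zero]
    simp only [map_sub, constantCoeff_C]
    intro h
    exact hne (sub_eq_zero.mp h).symm
  have h2 : IsUnit (σ (w - C c)) := h1.map σ
  have h3 : σ (C c) = C c := by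
    have : (C c : PowerSeries k) = algebraMap k (PowerSeries k) c := rfl
    rw [this, σ.commutes]
  rw [map_sub, h3, isUnit_iff_constantCoeff, isUnit_iff_ne_zero] at h2
  apply h2
  simp [hc]

theorem X_dvd_apply_X (σ : PowerSeries k ≃ₐ[k] PowerSeries k) :
    (X : PowerSeries k) ∣ σ X := by
  rw [X_dvd_iff, constantCoeff_apply]
  simp

/-- `σ X - X` divides `σ w - w`; form with powers of `X`. -/
theorem X_pow_dvd_sub (σ : PowerSeries k ≃ₐ[k] PowerSeries k) {N : ℕ}
    (hN : (X : PowerSeries k) ^ N ∣ σ X - X) (w : PowerSeries k) :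
    (X : PowerSeries k) ^ N ∣ σ w - w := by
  -- split off a polynomial part of degree `< N`
  have hpow : ∀ j : ℕ, (X : PowerSeries k) ^ N ∣ σ (X ^ j) - X ^ j := by
    intro j
    rw [map_pow]
    exact hN.trans (sub_dvd_pow_sub_pow _ _ j)
  have key : ∀ (M : ℕ) (w : PowerSeries k), ∃ w' : PowerSeries k,
      (X : PowerSeries k) ^ N ∣ (σ w - w) - (σ (X ^ M * w') - X ^ M * w') := by
    intro M
    induction M with
    | zero => intro w; exact ⟨w, by simp⟩
    | succ M ih =>
      intro w
      obtain ⟨w', hw'⟩ := ih w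
      obtain ⟨w'', hw''⟩ : (X : PowerSeries k) ∣ w' - C (constantCoeff w') := by
        rw [X_dvd_iff]; simp
      refine ⟨w'', ?_⟩
      have hC : σ (C (constantCoeff w')) = C (constantCoeff w') := by
        have : (C (constantCoeff w') : PowerSeries k) =
          algebraMap k (PowerSeries k) (constantCoeff w') := rfl
        rw [this, σ.commutes]
      have e1 : w' = C (constantCoeff w') + X * w'' := by
        rw [← hw'']; ring
      have e2 : (σ w - w) - (σ (X ^ (M + 1) * w'') - X ^ (M + 1) * w'') =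
          ((σ w - w) - (σ (X ^ M * w') - X ^ M * w')) +
            C (constantCoeff w') * (σ (X ^ M) - X ^ M) := by
        have e3 : X ^ M * w' = X ^ M * C (constantCoeff w') + X ^ (M + 1) * w'' := by
          conv_lhs => rw [e1]
          ring
        rw [e3, map_add, map_mul σ (X ^ M) (C (constantCoeff w')), hC]
        ring
      rw [e2]
      exact dvd_add hw' (dvd_mul_of_dvd_right (hpow M) _)
  obtain ⟨w', hw'⟩ := key N w
  have h1 : (X : PowerSeries k) ^ N ∣ σ (X ^ N * w') - X ^ N * w' := by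
    apply dvd_sub
    · rw [map_mul, map_pow]
      exact dvd_mul_of_dvd_left (pow_dvd_pow_of_dvd (X_dvd_apply_X σ) N) _
    · exact dvd_mul_right _ _
  have := dvd_add hw' h1
  rwa [sub_add_cancel] at this

/-- order `≥ j` in terms of divisibility, and order exactly `j`. -/
theorem order_eq_iff_exists {f : PowerSeries k} {j : ℕ} :
    f.order = j ↔ ∃ w : PowerSeries k, f = X ^ j * w ∧ constantCoeff w ≠ 0 := by
  constructor
  · intro h
    have hf : f ≠ 0 := by
      rintro rfl
      rw [order_zero] at h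
      exact absurd h (by simp)
    refine ⟨divXPowOrder f, ?_, ?_⟩
    · have := X_pow_order_mul_divXPowOrder (f := f)
      rw [h] at this
      exact this.symm
    · intro h0
      exact hf (constantCoeff_divXPowOrder_eq_zero_iff.mp h0)
  · rintro ⟨w, rfl, hw⟩
    have : w.order = 0 := by
      by_contra h
      exact hw (order_ne_zero_iff_constCoeff_eq_zero.mp h)
    rw [order_mul, order_X_pow, this, add_zero]

section main

variable (p : ℕ) [Fact p.Prime] [CharP k p]
variable (σ : PowerSeries k ≃ₐ[k] PowerSeries k) (hσp : σ ^ p = 1)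

include hσp in
theorem one_le_break {m : ℕ} (hm : (σ X - X).order = ((m + 1 : ℕ) : ℕ∞)) : 1 ≤ m := by
  set ζ := coeff 1 (σ X) with hζ
  have h1 : ∀ w : PowerSeries k, constantCoeff w = 0 → coeff 1 (σ w) = ζ * coeff 1 w := by
    intro w hw
    obtain ⟨w', rfl⟩ := X_dvd_iff.mpr hw
    obtain ⟨v, hv⟩ := X_dvd_apply_X σ
    have hζ' : ζ = constantCoeff v := by
      rw [hζ, hv, show (1 : ℕ) = 0 + 1 from rfl, coeff_succ_X_mul, coeff_zero_eq_constantCoeff]
    rw [map_mul, hv, mul_assoc, show (1 : ℕ) = 0 + 1 from rfl, coeff_succ_X_mul, coeff_succ_X_mul,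
      coeff_zero_eq_constantCoeff, map_mul, constantCoeff_apply, hζ']
  have h2 : ∀ i : ℕ, coeff 1 ((σ ^ i) X) = ζ ^ i := by
    intro i
    induction i with
    | zero => simp
    | succ i ih =>
      rw [pow_succ', AlgEquiv.mul_apply, h1, ih, pow_succ']
      rw [constantCoeff_apply]
      simp
  have h3 : ζ ^ p = 1 := by
    rw [← h2 p, hσp]; simp
  have h4 : ζ = 1 := by
    have : (ζ - 1) ^ p = 0 := by
      rw [sub_pow_char (p := p), h3, one_pow, sub_self]
    exact sub_eq_zero.mp (pow_eq_zero_iff (Fact.out : p.Prime).ne_zero |>.mp this)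
  by_contra hm0
  have hm0 : m = 0 := by omega
  subst hm0
  have h5 : coeff 1 (σ X - X) ≠ 0 := by
    have hne : (σ X - X : PowerSeries k) ≠ 0 := by
      intro h
      rw [h, order_zero] at hm
      exact absurd hm (by simp)
    have := coeff_order hne
    rw [hm] at this
    simpa using this
  apply h5
  rw [map_sub, ← hζ, h4]
  simp

/-- The basic formula. -/
theorem exists_sub_eq {m : ℕ} (hm1 : 1 ≤ m) {c : PowerSeries k}
    (hc : σ X - X = X ^ (m + 1) * c) (j : ℕ) (w : PowerSeries k) :
    ∃ E : PowerSeries k, σ (X ^ j * w) - X ^ j * w = X ^ (j + m) * E ∧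
      constantCoeff E = j * constantCoeff c * constantCoeff w := by
  obtain ⟨v, hv⟩ := X_pow_dvd_sub σ (N := m + 1) ⟨c, hc⟩ w
  obtain ⟨s, hs⟩ := X_dvd_apply_X σ
  have hX : σ X = X * (1 + X ^ m * c) := by
    have : σ X = X + X ^ (m + 1) * c := by rw [← hc]; ring
    rw [this]; ring
  -- binomial formula
  have hbin : ∀ (t : PowerSeries k) (j : ℕ), ∃ d : PowerSeries k, (1 + t) ^ j = 1 + j * t + t ^ 2 * d := by
    intro t j
    induction j with
    | zero => exact ⟨0, by simp⟩
    | succ j ih =>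
      obtain ⟨d, hd⟩ := ih
      refine ⟨d + j + t * d, ?_⟩
      rw [pow_succ, hd]
      push_cast
      ring
  obtain ⟨d, hd⟩ := hbin (X ^ m * c) j
  have hwσ : σ w = w + X ^ (m + 1) * v := by rw [← hv]; ring
  refine ⟨(1 + X ^ m * c) ^ j * (X * v) + ((j : PowerSeries k) * c + X ^ m * c ^ 2 * d) * w, ?_, ?_⟩
  · rw [map_mul, map_pow, hX, hwσ, mul_pow]
    have : (X : PowerSeries k) ^ j * (1 + X ^ m * c) ^ j * (w + X ^ (m + 1) * v) - X ^ j * w =
        X ^ j * ((1 + X ^ m * c) ^ j * (X ^ (m + 1) * v) + ((1 + X ^ m * c) ^ j - 1) * w) := by ring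
    rw [this]
    have h2 : (1 + X ^ m * c) ^ j - 1 = X ^ m * ((j : PowerSeries k) * c + X ^ m * c ^ 2 * d) := by
      rw [hd]; ring
    rw [h2]
    ring
  · have hm0 : m ≠ 0 := by omega
    simp [hm0]

include hσp in
/-- For `p ∤ order y`, the order of `σ y - y` is `order y + m`. -/
theorem order_sub_eq {m : ℕ} (hm : (σ X - X).order = ((m + 1 : ℕ) : ℕ∞))
    {y : PowerSeries k} {j : ℕ} (hy : y.order = j) (hj : ¬ p ∣ j) :
    (σ y - y).order = ((j + m : ℕ) : ℕ∞) := by
  obtain ⟨c, hc, hc0⟩ := order_eq_iff_exists.mp hm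
  obtain ⟨w, rfl, hw0⟩ := order_eq_iff_exists.mp hy
  obtain ⟨E, hE, hE0⟩ := exists_sub_eq σ (one_le_break p σ hσp hm) hc j w
  rw [order_eq_iff_exists]
  refine ⟨E, hE, ?_⟩
  rw [hE0]
  refine mul_ne_zero (mul_ne_zero ?_ hc0) hw0
  intro h
  exact hj ((CharP.cast_eq_zero_iff k p j).mp h)

include hσp in
/-- The order of `σ y - y` is at least `order y + m`. -/
theorem le_order_sub {m : ℕ} (hm : (σ X - X).order = ((m + 1 : ℕ) : ℕ∞))
    {y : PowerSeries k} {j : ℕ} (hy : y.order = j) :
    ((j + m : ℕ) : ℕ∞) ≤ (σ y - y).order := by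
  obtain ⟨c, hc, hc0⟩ := order_eq_iff_exists.mp hm
  obtain ⟨w, rfl, hw0⟩ := order_eq_iff_exists.mp hy
  obtain ⟨E, hE, hE0⟩ := exists_sub_eq σ (one_le_break p σ hσp hm) hc j w
  rw [hE, order_mul, order_X_pow]
  exact le_self_add

include hσp in
/-- The order of an invariant nonzero power series is divisible by `p`. -/
theorem dvd_order_of_fixed {m : ℕ} (hm : (σ X - X).order = ((m + 1 : ℕ) : ℕ∞))
    {y : PowerSeries k} {j : ℕ} (hy : y.order = j) (hσy : σ y = y) : p ∣ j := by
  by_contra hj
  have := order_sub_eq p σ hσp hm hy hj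
  rw [hσy, sub_self, order_zero] at this
  exact ENat.natCast_ne_top _ this.symm

include hσp in
theorem order_apply {m : ℕ} (hm : (σ X - X).order = ((m + 1 : ℕ) : ℕ∞))
    {y : PowerSeries k} {j : ℕ} (hy : y.order = j) : (σ y).order = j := by
  obtain ⟨w, rfl, hw0⟩ := order_eq_iff_exists.mp hy
  obtain ⟨c, hc, hc0⟩ := order_eq_iff_exists.mp hm
  have hm1 := one_le_break p σ hσp hm
  obtain ⟨E, hE, hE0⟩ := exists_sub_eq σ hm1 hc j w
  rw [order_eq_iff_exists]
  refine ⟨w + X ^ m * E, ?_, ?_⟩
  · have : σ (X ^ j * w) = X ^ j * w + X ^ (j + m) * E := by rw [← hE]; ring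
    rw [this]; ring
  · have hm0 : m ≠ 0 := by omega
    simpa [hm0] using hw0

include hσp in
theorem order_pow_apply_X {m : ℕ} (hm : (σ X - X).order = ((m + 1 : ℕ) : ℕ∞)) (i : ℕ) :
    ((σ ^ i) X).order = ((1 : ℕ) : ℕ∞) := by
  induction i with
  | zero => simp
  | succ i ih =>
    rw [pow_succ', AlgEquiv.mul_apply]
    exact order_apply p σ hσp hm ih

/-- The norm of `X`. -/
noncomputable def nrm : PowerSeries k := ∏ i ∈ Finset.range p, (σ ^ i) X

include hσp in
omit [CharP k p] in
theorem apply_nrm : σ (nrm p σ) = nrm p σ := by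
  unfold nrm
  rw [map_prod]
  have h1 : ∀ i ∈ Finset.range p, σ ((σ ^ i) X) = (σ ^ (i + 1)) X := by
    intro i _
    rw [pow_succ', AlgEquiv.mul_apply]
  rw [Finset.prod_congr rfl h1]
  have hp : p - 1 + 1 = p := Nat.sub_add_cancel (Fact.out : p.Prime).one_le
  rw [← hp, Finset.prod_range_succ, Finset.prod_range_succ', hp, hσp, pow_zero]

include hσp in
theorem order_nrm {m : ℕ} (hm : (σ X - X).order = ((m + 1 : ℕ) : ℕ∞)) :
    (nrm p σ).order = (p : ℕ∞) := by
  unfold nrm
  rw [order_prod]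
  rw [Finset.sum_congr rfl (fun i _ => order_pow_apply_X p σ hσp hm i)]
  simp

end main

end K874.OrderCalc
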