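import Groth.Agent.WildQuot.K874.Miracle
import Groth.Agent.S0565
import Mathlib.RingTheory.TensorProduct.Basic
import Mathlib.RingTheory.TensorProduct.Maps
import Mathlib.RingTheory.Flat.Basic
import Mathlib.Algebra.Algebra.Subalgebra.Basic
import Mathlib.RingTheory.LocalRing.RingHom.Basic
import Mathlib.Algebra.Module.Projective

/-!
# A coproduct decomposition of a regular local ring finite over a regular local ring
-/

set_option autoImplicit false
universe u v

namespace K874.Coprod

open TensorProduct

variable {R : Type u} {A : Type v} [CommRing R] [CommRing A] [IsRegularLocalRing R]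
  [IsRegularLocalRing A] [Algebra R A] [Module.Finite R A]

/-- There is an `R`-linear retraction `A → R`. -/
theorem exists_retraction (hinj : Function.Injective (algebraMap R A)) :
    ∃ ρ : A →ₗ[R] R, ρ 1 = 1 := by
  classical
  have hfree := Miracle.free_of_finite hinj
  have hfs : FaithfulSMul R A := (faithfulSMul_iff_algebraMap_injective R A).mpr hinj
  have hint : Algebra.IsIntegral R A := inferInstance
  have hloc : IsLocalHom (algebraMap R A) := inferInstance
  have hle : (IsLocalRing.maximalIdeal R).map (algebraMap R A) ≤ IsLocalRing.maximalIdeal A :=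
    ((IsLocalRing.local_hom_TFAE (algebraMap R A)).out 0 2).mp hloc
  let b := Module.Free.chooseBasis R A
  obtain ⟨i, hi⟩ : ∃ i, IsUnit (b.repr 1 i) := by
    by_contra hno
    push Not at hno
    have h1 : (1 : A) ∈ IsLocalRing.maximalIdeal A := by
      rw [← b.linearCombination_repr 1, Finsupp.linearCombination_apply, Finsupp.sum]
      refine Ideal.sum_mem _ fun i _ => ?_
      rw [Algebra.smul_def]
      apply Ideal.mul_mem_right
      exact hle (Ideal.mem_map_of_mem _ ((IsLocalRing.mem_maximalIdeal _).mpr (hno i)))
    exact (Ideal.ne_top_iff_one _).mp (Ideal.IsPrime.ne_top') h1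
  obtain ⟨c, hc⟩ := hi.exists_left_inv
  exact ⟨c • b.coord i, hc⟩

/-- The main result: a tensor decomposition in the form of a universal property. -/
theorem main (hinj : Function.Injective (algebraMap R A)) {ι : Type} (B : ι → Subalgebra R A)
    (hcoprod : ∀ (C : Type (max u v)) [CommRing C] [Algebra R C] (φ : ∀ i : ι, B i →ₐ[R] C),
      ∃! ψ : A →ₐ[R] C, ∀ i (x : B i), ψ x = φ i x) (i : ι) :
    Module.Free R (B i) ∧ IsRegularLocalRing (B i) := by
  classical
  obtain ⟨ρ, hρ⟩ := exists_retraction hinj
  let Cc : Subalgebra R A := ⨆ j : {j : ι // j ≠ i}, B j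
  have hle : ∀ j : ι, j ≠ i → B j ≤ Cc := fun j hj =>
    le_iSup (fun j : {j : ι // j ≠ i} => B j) ⟨j, hj⟩
  let T := (B i) ⊗[R] Cc
  -- the map `A → T`
  let φ : ∀ j : ι, B j →ₐ[R] T := fun j =>
    if h : j = i then
      (Algebra.TensorProduct.includeLeft : B i →ₐ[R] T).comp (Subalgebra.inclusion (h ▸ le_rfl))
    else (Algebra.TensorProduct.includeRight : Cc →ₐ[R] T).comp (Subalgebra.inclusion (hle j h))
  obtain ⟨ψ', hψ', -⟩ := hcoprod (ULift.{u} T)
    (fun j => (ULift.algEquiv (R := R) (A := T)).symm.toAlgHom.comp (φ j))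
  let ψ : A →ₐ[R] T := (ULift.algEquiv (R := R) (A := T)).toAlgHom.comp ψ'
  have hψ : ∀ j (x : B j), ψ x = φ j x := by
    intro j x
    change (ULift.algEquiv (R := R) (A := T)) (ψ' x) = φ j x
    rw [hψ' j x]
    rfl
  have hψi : ∀ x : B i, ψ x = x ⊗ₜ[R] 1 := by
    intro x
    rw [hψ i x]
    simp only [φ, dif_pos]
    rfl
  have hψj : ∀ j (_ : j ≠ i) (x : A) (hx : x ∈ B j), ψ x = 1 ⊗ₜ[R] (⟨x, hle j ‹_› hx⟩ : Cc) := by
    intro j hj x hx
    have := hψ j ⟨x, hx⟩
    simp only [φ, dif_neg hj] at this
    exact this
  have hψC : ∀ x : Cc, ψ x = 1 ⊗ₜ[R] x := by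
    -- the equalizer of the two maps `Cc → T`
    let E : Subalgebra R A := (AlgHom.equalizer (ψ.comp Cc.val)
      (Algebra.TensorProduct.includeRight : Cc →ₐ[R] T)).map Cc.val
    have hE : Cc ≤ E := by
      refine iSup_le fun j => ?_
      intro x hx
      refine ⟨⟨x, hle j.1 j.2 hx⟩, ?_, rfl⟩
      exact hψj j.1 j.2 x hx
    intro x
    obtain ⟨y, hy, hyx⟩ := hE x.2
    have : y = x := Subtype.ext hyx
    subst this
    exact hy
  -- projectivity
  have hnoeth : IsNoetherian R A := inferInstance
  have hflatA : Module.Flat R A := Miracle.flat_of_finite hinj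
  have hfreeA : Module.Free R A := Miracle.free_of_finite hinj
  have hprojA : Module.Projective R A := inferInstance
  have hprojB : Module.Projective R (B i) := by
    let s : A →ₗ[R] B i := (TensorProduct.rid R (B i)).toLinearMap ∘ₗ
      (TensorProduct.map LinearMap.id (ρ ∘ₗ Cc.val.toLinearMap)) ∘ₗ ψ.toLinearMap
    refine Module.Projective.of_split (B i).val.toLinearMap s ?_
    ext x
    change ((TensorProduct.rid R (B i)) ((TensorProduct.map LinearMap.id
      (ρ ∘ₗ Cc.val.toLinearMap)) (ψ x)) : A) = x
    rw [hψi x, TensorProduct.map_tmul, TensorProduct.rid_tmul]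
    change ((ρ 1 • x : B i) : A) = x
    rw [hρ, one_smul]
  have hprojC : Module.Projective R Cc := by
    let s : A →ₗ[R] Cc := (TensorProduct.lid R Cc).toLinearMap ∘ₗ
      (TensorProduct.map (ρ ∘ₗ (B i).val.toLinearMap) LinearMap.id) ∘ₗ ψ.toLinearMap
    refine Module.Projective.of_split Cc.val.toLinearMap s ?_
    ext x
    change ((TensorProduct.lid R Cc) ((TensorProduct.map (ρ ∘ₗ (B i).val.toLinearMap)
      LinearMap.id) (ψ x)) : A) = x
    rw [hψC x, TensorProduct.map_tmul, TensorProduct.lid_tmul]
    change ((ρ 1 • x : Cc) : A) = x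
    rw [hρ, one_smul]
  have hfinB : Module.Finite R (B i) :=
    Module.Finite.of_injective (B i).val.toLinearMap Subtype.val_injective
  have hfreeB : Module.Free R (B i) := Module.free_of_flat_of_isLocalRing
  refine ⟨hfreeB, ?_⟩
  -- `T ≃ A`
  let m : T →ₐ[R] A := Algebra.TensorProduct.productMap (B i).val Cc.val
  have hmψ : ∀ x : A, m (ψ x) = x := by
    obtain ⟨χ, hχ, huniq⟩ := hcoprod (ULift.{u} A)
      (fun j => (ULift.algEquiv (R := R) (A := A)).symm.toAlgHom.comp (B j).val)
    have h1 := huniq ((ULift.algEquiv (R := R) (A := A)).symm.toAlgHom.comp (m.comp ψ)) (by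
      intro j x
      change (ULift.algEquiv (R := R) (A := A)).symm (m (ψ x)) =
        (ULift.algEquiv (R := R) (A := A)).symm (x : A)
      congr 1
      by_cases hj : j = i
      · subst hj
        rw [hψi x]
        change (x : A) * ((1 : Cc) : A) = x
        simp
      · rw [hψj j hj x x.2]
        change ((1 : B i) : A) * (x : A) = x
        simp)
    have h2 := huniq ((ULift.algEquiv (R := R) (A := A)).symm.toAlgHom) (by
      intro j x
      rfl)
    intro x
    have h3 := DFunLike.congr_fun (h1.trans h2.symm) x
    exact (ULift.algEquiv (R := R) (A := A)).symm.injective h3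
  have hψm : ∀ t : T, ψ (m t) = t := by
    have : ψ.comp m = AlgHom.id R T := by
      apply Algebra.TensorProduct.ext
      · ext x
        change ψ (m (x ⊗ₜ 1)) = x ⊗ₜ 1
        rw [← hψi x, hmψ]
      · ext x
        change ψ (m (1 ⊗ₜ x)) = 1 ⊗ₜ x
        rw [← hψC x, hmψ]
    exact fun t => DFunLike.congr_fun this t
  have hflat : Module.Flat (B i) A := by
    have hT : Module.Flat (B i) T := inferInstance
    let e : T ≃ₗ[B i] A :=
      { toFun := m
        invFun := ψ
        left_inv := hψm
        right_inv := hmψ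
        map_add' := map_add m
        map_smul' := by
          intro b t
          rw [RingHom.id_apply]
          induction t using TensorProduct.induction_on with
          | zero => rw [smul_zero, map_zero, smul_zero]
          | tmul x y =>
            rw [TensorProduct.smul_tmul']
            change ((b • x : B i) : A) * (y : A) = (b : A) * ((x : A) * (y : A))
            rw [smul_eq_mul, ← mul_assoc]
            rfl
          | add x y hx hy => rw [smul_add, map_add, map_add, smul_add, hx, hy] }
    exact Module.Flat.of_linearEquiv e.symm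
  have hfinBA : Module.Finite (B i) A := Module.Finite.of_restrictScalars_finite R (B i) A
  have hintBA : Algebra.IsIntegral (B i) A := inferInstance
  have hlocBA : IsLocalHom (algebraMap (B i) A) := inferInstance
  have hlocB : IsLocalRing (B i) := RingHom.domain_isLocalRing (algebraMap (B i) A)
  have hnB : IsNoetherianRing (B i) :=
    isNoetherian_of_tower R (isNoetherian_of_isNoetherianRing_of_finite R (B i))
  exact Groth.Agent.S0565.result (B i) A

end K874.Coprod
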