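import Mathlib.Algebra.CharP.Basic
import Mathlib.Algebra.CharP.Lemmas
import Mathlib.Algebra.Polynomial.Div
import Mathlib.Algebra.Polynomial.Roots
import Mathlib.RingTheory.Adjoin.Polynomial.Basic
import Mathlib.RingTheory.MvPolynomial.Basic
import Mathlib.RingTheory.Ideal.Quotient.Operations
import Mathlib.LinearAlgebra.Lagrange

/-!
# Invariants in Artin–Schreier extensions
-/

set_option autoImplicit false
universe u v w

namespace K874.ASInv

open Polynomial

theorem cast_injOn {A : Type*} [CommRing A] (p : ℕ) [CharP A p] {i j : ℕ} (hi : i < p)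
    (hj : j < p) (h : (i : A) = j) : i = j := by
  rw [CharP.natCast_eq_natCast A p] at h
  exact Nat.ModEq.eq_of_lt_of_lt h hi hj

/-- If `F` has degree `< p` and takes the same value at `u, u + e, …, u + (p-1) e`, it is constant. -/
theorem eq_C_of_eval {A : Type*} [CommRing A] [IsDomain A] (p : ℕ) (hp : 0 < p) [CharP A p]
    (F : A[X]) (hF : F.degree < p) (u e t : A) (he : e ≠ 0)
    (h : ∀ j < p, F.eval (u + j * e) = t) : F = C t := by
  refine Polynomial.eq_of_degrees_lt_of_eval_index_eq (s := Finset.range p)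
    (v := fun j : ℕ => u + j * e) ?_ ?_ ?_ ?_
  · intro i hi j hj hij
    have h1 : (i : A) * e = j * e := add_left_cancel hij
    exact cast_injOn p (Finset.mem_range.mp (by exact_mod_cast hi))
      (Finset.mem_range.mp (by exact_mod_cast hj)) (mul_right_cancel₀ he h1)
  · rwa [Finset.card_range]
  · rw [Finset.card_range]
    refine degree_C_le.trans_lt ?_
    exact_mod_cast hp
  · intro j hj
    rw [h j (Finset.mem_range.mp hj), eval_C]

variable {R : Type*} {A : Type*} [CommRing R] [CommRing A] [IsDomain A] [Algebra R A]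

/-- Let `C ⊆ A` be fixed by `σ`, `σ u = u + e` with `e ≠ 0` fixed by `σ`, and `u ^ p - c u ∈ C` for
some `c ∈ C`. Then an element of `C[u]` fixed by `σ` is in `C`. -/
theorem mem_of_fixed (p : ℕ) [hp : Fact p.Prime] [CharP A p] (S : Subalgebra R A) (σ : A →ₐ[R] A)
    (hS : ∀ c ∈ S, σ c = c) (u e : A) (he : e ≠ 0) (hσe : σ e = e) (hσu : σ u = u + e)
    (c : A) (hc : c ∈ S) (hu : u ^ p - c * u ∈ S) (t : A)
    (ht : t ∈ Algebra.adjoin S {u}) (hσt : σ t = t) : t ∈ S := by
  have hp2 := hp.out.two_le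
  rw [Algebra.adjoin_singleton_eq_range_aeval] at ht
  obtain ⟨F, hF⟩ := ht
  change aeval u F = t at hF
  let d : S := ⟨u ^ p - c * u, hu⟩
  let c' : S := ⟨c, hc⟩
  have hdeg : (C c' * X + C d : Polynomial S).degree < p :=
    Polynomial.degree_linear_le.trans_lt (by exact_mod_cast hp2)
  let P : Polynomial S := X ^ p - (C c' * X + C d)
  have hP : P.Monic := Polynomial.monic_X_pow_sub hdeg
  have hPdeg : P.degree = p := by
    rw [Polynomial.degree_sub_eq_left_of_degree_lt]
    · exact Polynomial.degree_X_pow p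
    · rwa [Polynomial.degree_X_pow]
  have hPu : aeval u P = 0 := by
    simp only [P, map_sub, map_add, map_mul, map_pow, aeval_X, aeval_C]
    change u ^ p - (c * u + (u ^ p - c * u)) = 0
    ring
  let G : Polynomial S := F %ₘ P
  have hG : aeval u G = t := by
    rw [← hF]
    exact Polynomial.aeval_modByMonic_eq_self_of_root hPu
  have hGdeg : (G.map (algebraMap S A)).degree < p := by
    refine (Polynomial.degree_map_le).trans_lt ?_
    rw [← hPdeg]
    exact Polynomial.degree_modByMonic_lt _ hP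
  have hσj (j : ℕ) : (σ ^ j) u = u + j * e ∧ (σ ^ j) t = t ∧ ∀ s ∈ S, (σ ^ j) s = s := by
    induction j with
    | zero => exact ⟨by simp, by simp, fun s _ => by simp⟩
    | succ j ih =>
      refine ⟨?_, ?_, fun s hs => ?_⟩
      · rw [pow_succ', AlgHom.mul_apply, ih.1, map_add, map_mul, map_natCast, hσu, hσe]
        push_cast
        ring
      · rw [pow_succ', AlgHom.mul_apply, ih.2.1, hσt]
      · rw [pow_succ', AlgHom.mul_apply, ih.2.2 s hs, hS s hs]
  have key : G.map (algebraMap S A) = C t := by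
    refine eq_C_of_eval p hp.out.pos _ hGdeg u e t he fun j _ => ?_
    rw [← (hσj j).1]
    have h1 : (σ ^ j) t = t := (hσj j).2.1
    rw [← hG, aeval_def, eval₂_eq_sum, Polynomial.sum, map_sum] at h1
    rw [eval_map, eval₂_eq_sum, Polynomial.sum]
    rw [← hG, aeval_def, eval₂_eq_sum, Polynomial.sum]
    rw [← h1]
    refine Finset.sum_congr rfl fun i _ => ?_
    rw [map_mul, map_pow]
    congr 1
    exact ((hσj j).2.2 _ (G.coeff i).2).symm
  have h2 := congrArg (fun q => q.coeff 0) key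
  simp only [coeff_map, coeff_C_zero] at h2
  rw [← h2]
  exact (G.coeff 0).2

/-- If `c u_i ∈ S` for all `i`, then for every `t` in the algebra generated by the `u_i` some
`c ^ N t` is in `S`. -/
theorem exists_pow_mul_mem {R : Type*} {A : Type*} [CommRing R] [CommRing A] [Algebra R A]
    {ι : Type*} (u : ι → A) (hu : Algebra.adjoin R (Set.range u) = ⊤)
    (S : Subalgebra R A) (c : A) (hc : c ∈ S) (h : ∀ i, c * u i ∈ S) (t : A) :
    ∃ N : ℕ, c ^ N * t ∈ S := by
  have ht : t ∈ Algebra.adjoin R (Set.range u) := hu ▸ Algebra.mem_top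
  induction ht using Algebra.adjoin_induction with
  | mem y hy =>
    obtain ⟨i, rfl⟩ := hy
    exact ⟨1, by rw [pow_one]; exact h i⟩
  | algebraMap r =>
    refine ⟨0, ?_⟩
    rw [pow_zero, one_mul]
    exact S.algebraMap_mem r
  | add q1 q2 _ _ h1 h2 =>
    obtain ⟨n1, h1⟩ := h1
    obtain ⟨n2, h2⟩ := h2
    refine ⟨n1 + n2, ?_⟩
    have h3 : c ^ (n1 + n2) * (q1 + q2) =
        c ^ n2 * (c ^ n1 * q1) + c ^ n1 * (c ^ n2 * q2) := by ring
    rw [h3]
    exact add_mem (mul_mem (pow_mem hc _) h1) (mul_mem (pow_mem hc _) h2)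
  | mul q1 q2 _ _ h1 h2 =>
    obtain ⟨n1, h1⟩ := h1
    obtain ⟨n2, h2⟩ := h2
    refine ⟨n1 + n2, ?_⟩
    have h3 : c ^ (n1 + n2) * (q1 * q2) = (c ^ n1 * q1) * (c ^ n2 * q2) := by ring
    rw [h3]
    exact mul_mem h1 h2

/-- Invariants of `σ u_i = u_i + μ a_i`: after multiplication by a power of `μ a_{i₀}` they are in
the algebra generated by the minors `a_{i₀} u_j - a_j u_{i₀}`. -/
theorem exists_pow_mul_mem_adjoin {R : Type*} {A : Type*} [CommRing R] [CommRing A] [IsDomain A]
    [Algebra R A] (p : ℕ) [hp : Fact p.Prime] [CharP A p] {ι : Type*} (u : ι → A)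
    (hu : Algebra.adjoin R (Set.range u) = ⊤) (a x : ι → R) (μ : R) (i₀ : ι)
    (hrel : u i₀ ^ p = algebraMap R A ((μ * a i₀) ^ (p - 1)) * u i₀ + algebraMap R A (x i₀))
    (he : algebraMap R A (μ * a i₀) ≠ 0) (σ : A →ₐ[R] A)
    (hσ : ∀ i, σ (u i) = u i + algebraMap R A (μ * a i)) (t : A) (ht : σ t = t) :
    ∃ N : ℕ, algebraMap R A (μ * a i₀) ^ N * t ∈ Algebra.adjoin R (Set.range
      fun j : {j : ι // j ≠ i₀} => algebraMap R A (a i₀) * u j.1 - algebraMap R A (a j.1) * u i₀) := by
  classical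
  generalize hB : Algebra.adjoin R (Set.range
      fun j : {j : ι // j ≠ i₀} => algebraMap R A (a i₀) * u j.1 - algebraMap R A (a j.1) * u i₀) = B
  have hz : ∀ j, j ≠ i₀ → algebraMap R A (a i₀) * u j - algebraMap R A (a j) * u i₀ ∈ B := by
    intro j hj
    rw [← hB]
    exact Algebra.subset_adjoin ⟨⟨j, hj⟩, rfl⟩
  have hBfix : ∀ c ∈ B, σ c = c := by
    have h1 : B ≤ AlgHom.equalizer σ (AlgHom.id R A) := by
      rw [← hB]
      refine Algebra.adjoin_le ?_
      rintro _ ⟨j, rfl⟩
      change σ (algebraMap R A (a i₀) * u j.1 - algebraMap R A (a j.1) * u i₀) =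
        algebraMap R A (a i₀) * u j.1 - algebraMap R A (a j.1) * u i₀
      rw [map_sub, map_mul, map_mul, hσ, hσ, σ.commutes, σ.commutes, map_mul, map_mul]
      ring
    exact fun c hc => h1 hc
  let S : Subalgebra R A := (Algebra.adjoin B {u i₀}).restrictScalars R
  have hBS : ∀ x ∈ B, x ∈ S := by
    intro x hx
    rw [Subalgebra.mem_restrictScalars]
    exact (Algebra.adjoin B {u i₀}).algebraMap_mem (⟨x, hx⟩ : B)
  have huS : u i₀ ∈ S := by
    rw [Subalgebra.mem_restrictScalars]
    exact Algebra.subset_adjoin (Set.mem_singleton _)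
  have hgen : ∀ i, algebraMap R A (a i₀) * u i ∈ S := by
    intro i
    by_cases hi : i = i₀
    · rw [hi]
      exact mul_mem (S.algebraMap_mem _) huS
    · have h1 : algebraMap R A (a i₀) * u i =
          (algebraMap R A (a i₀) * u i - algebraMap R A (a i) * u i₀) + algebraMap R A (a i) * u i₀ := by
        ring
      rw [h1]
      exact add_mem (hBS _ (hz i hi)) (mul_mem (S.algebraMap_mem _) huS)
  obtain ⟨N, hN⟩ := exists_pow_mul_mem u hu S (algebraMap R A (a i₀)) (S.algebraMap_mem _) hgen t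
  refine ⟨N, ?_⟩
  have hmem : algebraMap R A (μ * a i₀) ^ N * t ∈ S := by
    rw [map_mul, mul_pow, mul_assoc]
    exact mul_mem (pow_mem (S.algebraMap_mem _) _) hN
  rw [Subalgebra.mem_restrictScalars] at hmem
  refine mem_of_fixed p B σ hBfix (u i₀) (algebraMap R A (μ * a i₀)) he (σ.commutes _) (hσ i₀)
    (algebraMap R A ((μ * a i₀) ^ (p - 1))) (B.algebraMap_mem _) ?_
    (algebraMap R A (μ * a i₀) ^ N * t) hmem ?_
  · rw [hrel, add_sub_cancel_left]
    exact B.algebraMap_mem _
  · rw [map_mul, map_pow, σ.commutes, ht]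

end K874.ASInv
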