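import Groth.Agent.WildQuot.K873.ASPow
import Groth.Agent.WildQuot.K874.ASInv

/-!
# Basic facts on the Artin–Schreier family with parameters `μ a_i`
-/

set_option autoImplicit false
universe u v w
open MvPolynomial IsLocalRing

namespace K874.ASBasic

open K873.ArtSch K873.ASReg K873

variable {k : Type u} [Field k] {n : ℕ}

theorem isDomain_pow : IsDomain (MvPowerSeries (Fin n) k) := NoZeroDivisors.to_isDomain _

theorem ne_zero (hn : 2 ≤ n) (a : Fin n → MvPowerSeries (Fin n) k)
    (ham : ∀ i, MvPowerSeries.constantCoeff (a i) = 0) (hcop : ∀ i j, i ≠ j → IsRelPrime (a i) (a j))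
    (i : Fin n) : a i ≠ 0 := by
  intro h
  have : ∃ j, i ≠ j := by
    by_contra! hh
    have h0 := hh ⟨0, by omega⟩
    have h1 := hh ⟨1, by omega⟩
    rw [h0, Fin.mk.injEq] at h1
    exact absurd h1 (by norm_num)
  obtain ⟨j, hj⟩ := this
  have h1 := hcop i j hj
  rw [h] at h1
  have h2 : IsUnit (a j) := h1 (dvd_zero _) dvd_rfl
  rw [MvPowerSeries.isUnit_iff_constantCoeff, ham j] at h2
  exact not_isUnit_zero h2

theorem charP (p : ℕ) [CharP k p] {A : Type*} [CommRing A] [Nontrivial A]
    [Algebra (MvPowerSeries (Fin n) k) A] : CharP A p :=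
  charP_of_injective_ringHom
    (((algebraMap (MvPowerSeries (Fin n) k) A).comp
      (algebraMap k (MvPowerSeries (Fin n) k))).injective) p

theorem mul_mem (a : Fin n → MvPowerSeries (Fin n) k) (μ : MvPowerSeries (Fin n) k)
    (ham : ∀ i, MvPowerSeries.constantCoeff (a i) = 0) (i : Fin n) :
    MvPowerSeries.constantCoeff (μ * a i) = 0 := by
  rw [map_mul, ham, mul_zero]

end K874.ASBasic
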