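import Groth.Agent.WildQuot.K873.ASPow
import Groth.Agent.WildQuot.K873.RegFree

/-!
# The fixed scheme of the Artin–Schreier action
-/

set_option autoImplicit false
universe u v w
open MvPolynomial IsLocalRing TensorProduct

namespace K874.ASFix

open K873.ArtSch K873.ASReg K873

/-- the ideal generated by all `σ t - t` -/
theorem span_sub_eq {R : Type u} [CommRing R] {ι : Type v} (I : Ideal (MvPolynomial ι R))
    (σ : (MvPolynomial ι R ⧸ I) →ₐ[R] (MvPolynomial ι R ⧸ I)) (a : ι → R)
    (hσ : ∀ i, σ (Ideal.Quotient.mk I (X i)) = Ideal.Quotient.mk I (X i) + algebraMap R _ (a i)) :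
    Ideal.span (Set.range fun t => σ t - t) = (Ideal.span (Set.range a)).map (algebraMap R _) := by
  apply le_antisymm
  · rw [Ideal.span_le]
    rintro _ ⟨t, rfl⟩
    change σ t - t ∈ (Ideal.span (Set.range a)).map (algebraMap R _)
    obtain ⟨q, rfl⟩ := Ideal.Quotient.mk_surjective t
    induction q using MvPolynomial.induction_on with
    | C r =>
      have h1 : Ideal.Quotient.mk I (C r) = algebraMap R (MvPolynomial ι R ⧸ I) r := rfl
      rw [h1, σ.commutes, sub_self]
      exact zero_mem _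
    | add q1 q2 h1 h2 =>
      rw [map_add, map_add, add_sub_add_comm]
      exact add_mem h1 h2
    | mul_X q i h =>
      rw [map_mul, map_mul, hσ]
      have h2 : σ (Ideal.Quotient.mk I q) * (Ideal.Quotient.mk I (X i) + algebraMap R _ (a i)) -
          Ideal.Quotient.mk I q * Ideal.Quotient.mk I (X i) =
          Ideal.Quotient.mk I (X i) * (σ (Ideal.Quotient.mk I q) - Ideal.Quotient.mk I q) +
          σ (Ideal.Quotient.mk I q) * algebraMap R _ (a i) := by ring
      rw [h2]
      exact add_mem (Ideal.mul_mem_left _ _ h) (Ideal.mul_mem_left _ _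
        (Ideal.mem_map_of_mem _ (Ideal.subset_span ⟨i, rfl⟩)))
  · rw [Ideal.map_span, Ideal.span_le]
    rintro _ ⟨_, ⟨i, rfl⟩, rfl⟩
    refine Ideal.subset_span ⟨Ideal.Quotient.mk I (X i), ?_⟩
    simp only [hσ, add_sub_cancel_left]

variable (p : ℕ) {R : Type u} [CommRing R] {ι : Type v} (a x : ι → R)
variable [IsLocalRing R] [Fintype ι]

theorem map_maximalIdeal_le_pow [IsNoetherianRing R] (hp : 2 ≤ p)
    (hx : Ideal.span (Set.range x) = maximalIdeal R) (ha : ∀ i, a i ∈ maximalIdeal R) :
    (maximalIdeal R).map (algebraMap R (MvPolynomial ι R ⧸ asI p a x)) ≤ mI p a x ^ p := by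
  have hloc := K873.ASReg.isLocalRing p a x hp hx ha
  have hfin := K873.ArtSch.finite p a x hp
  refine Submodule.le_of_le_smul_of_le_jacobson_bot (I := mI p a x)
    (Ideal.FG.map (IsNoetherian.noetherian (maximalIdeal R)) _) ?_ ?_
  · rw [← K873.ASReg.maximalIdeal_eq p a x hp hx]
    exact IsLocalRing.maximalIdeal_le_jacobson _
  · conv_lhs => rw [← hx]
    rw [Ideal.map_span, Ideal.span_le]
    rintro _ ⟨_, ⟨i, rfl⟩, rfl⟩
    have hu : Ideal.Quotient.mk (asI p a x) (X i) ∈ mI p a x := Ideal.subset_span ⟨i, rfl⟩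
    have h := rel p a x i
    rw [← sub_eq_iff_eq_add'] at h
    have h3 := Ideal.mul_mem_mul hu (Ideal.mem_map_of_mem (algebraMap R (MvPolynomial ι R ⧸ asI p a x))
      (Ideal.pow_mem_of_mem _ (ha i) (p - 1) (by omega)))
    rw [mul_comm (Ideal.Quotient.mk (asI p a x) (X i)), map_pow] at h3
    rw [← h, sub_eq_add_neg, map_pow]
    exact Submodule.add_mem_sup (Ideal.pow_mem_pow hu p) (neg_mem h3)

theorem length_quotient [IsNoetherianRing R] [IsDomain R] (hp : 2 ≤ p)
    (hx : Ideal.span (Set.range x) = maximalIdeal R) (ha : ∀ i, a i ∈ maximalIdeal R)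
    (J : Ideal R) :
    Module.length (MvPolynomial ι R ⧸ asI p a x)
      ((MvPolynomial ι R ⧸ asI p a x) ⧸ J.map (algebraMap R (MvPolynomial ι R ⧸ asI p a x))) =
      (p ^ Fintype.card ι : ℕ∞) * Module.length R (R ⧸ J) := by
  have hloc := K873.ASReg.isLocalRing p a x hp hx ha
  have hfin := K873.ArtSch.finite p a x hp
  have hfree := K873.ArtSch.free p a x hp
  have hinj := algebraMap_injective p a x hp
  have hloc' := K873.RegFree.isLocalHom_of_isIntegral hinj
  have hres : Function.Surjective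
      (residue (MvPolynomial ι R ⧸ asI p a x) ∘ algebraMap R (MvPolynomial ι R ⧸ asI p a x)) := by
    intro y
    obtain ⟨y, rfl⟩ := residue_surjective y
    obtain ⟨r, hr⟩ := exists_sub_mem (asI p a x) y
    refine ⟨r, ?_⟩
    rw [Function.comp_apply, eq_comm, ← sub_eq_zero, ← map_sub, residue_eq_zero_iff,
      K873.ASReg.maximalIdeal_eq p a x hp hx]
    exact hr
  have h1 := IsLocalRing.length_baseChange R (MvPolynomial ι R ⧸ asI p a x) (R ⧸ J)
  rw [K873.RegFree.length_fibre hres, finrank_eq p a x hp,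
    (Algebra.TensorProduct.quotIdealMapEquivTensorQuot (MvPolynomial ι R ⧸ asI p a x) J).symm.toLinearEquiv.length_eq] at h1
  rw [h1, mul_comm, Nat.cast_pow]

end K874.ASFix
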