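import Mathlib.FieldTheory.Fixed
import Mathlib.RingTheory.Localization.Finiteness
import Mathlib.RingTheory.Algebraic.Integral
import Mathlib.RingTheory.Localization.FractionRing
import Mathlib.Algebra.Algebra.Subalgebra.Basic
import Mathlib.RingTheory.Ideal.Over
import Mathlib.RingTheory.Ideal.Pointwise
import Mathlib.RingTheory.Invariant.Basic

/-!
# Counting automorphisms when the automorphisms of the invariants extend
-/

set_option autoImplicit false
universe u v w

namespace K874.ExtCount

theorem finite_and_card_le (R A : Type*) [CommRing R] [CommRing A] [IsDomain R] [IsDomain A]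
    [Algebra R A] [Module.Finite R A] (hinj : Function.Injective (algebraMap R A)) :
    Finite (A ≃ₐ[R] A) ∧ Nat.card (A ≃ₐ[R] A) ≤ Module.finrank R A := by
  have hf : FaithfulSMul R A := (faithfulSMul_iff_algebraMap_injective R A).mpr hinj
  let K := FractionRing R
  let L := FractionRing A
  let _ : Algebra K L := FractionRing.liftAlgebra R L
  have hst : IsScalarTower R K L := inferInstance
  have hfin : FiniteDimensional K L := .of_isLocalization R A (nonZeroDivisors R)
  have h1 : Function.Injective (IsFractionRing.fieldEquivOfAlgEquivHom K L : (A ≃ₐ[R] A) →* (L ≃ₐ[K] L)) :=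
    IsFractionRing.fieldEquivOfAlgEquivHom_injective R A K L
  have h2 : Nat.card (L ≃ₐ[K] L) ≤ Module.finrank K L := by
    rw [Nat.card_eq_fintype_card]
    exact AlgEquiv.card_le
  refine ⟨Finite.of_injective _ h1, ?_⟩
  refine (Nat.card_le_card_of_injective _ h1).trans (h2.trans ?_)
  rw [IsFractionRing.finrank_eq R K A L]

theorem card_algEquiv_eq (p : ℕ) (A : Type u) [CommRing A] [IsDomain A]
    (k : Type v) [Field k] [Algebra k A]
    (G : Type w) [Group G] [Finite G] [MulSemiringAction G A] (hcard : Nat.card G = p)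
    [SMulCommClass G k A] (hfaith : ∀ g : G, (∀ a : A, g • a = a) → g = 1)
    (R : Type v) [CommRing R] [Algebra k R] [Algebra R A] [IsScalarTower k R A] [Module.Finite R A]
    (hRinj : Function.Injective (algebraMap R A))
    (hRG : ∀ (σ : G) (r : R), σ • algebraMap R A r = algebraMap R A r)
    (hext : ∀ φ : FixedPoints.subalgebra k A G ≃ₐ[k] FixedPoints.subalgebra k A G,
      ∃ ψ : A ≃ₐ[k] A, ∀ x : FixedPoints.subalgebra k A G, ψ x = φ x)
    (hgal : p * Nat.card {φ : FixedPoints.subalgebra k A G ≃ₐ[k] FixedPoints.subalgebra k A G //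
        ∀ b : FixedPoints.subalgebra k A G, (b : A) ∈ Set.range (algebraMap R A) → (φ b : A) = b} =
      Module.finrank R A) :
    Nat.card (A ≃ₐ[R] A) = Module.finrank R A := by
  have hdomR : IsDomain R := hRinj.isDomain _
  obtain ⟨hfin, hle⟩ := finite_and_card_le R A hRinj
  refine le_antisymm hle ?_
  rw [← hgal, ← hcard, ← Nat.card_prod]
  choose ψ hψ using hext
  have hψR (φ : {φ : FixedPoints.subalgebra k A G ≃ₐ[k] FixedPoints.subalgebra k A G //
        ∀ b : FixedPoints.subalgebra k A G, (b : A) ∈ Set.range (algebraMap R A) → (φ b : A) = b})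
      (r : R) : ψ φ.1 (algebraMap R A r) = algebraMap R A r := by
    have hr : algebraMap R A r ∈ FixedPoints.subalgebra k A G := fun g => hRG g r
    have h1 := hψ φ.1 ⟨_, hr⟩
    rw [φ.2 ⟨_, hr⟩ ⟨r, rfl⟩] at h1
    exact h1
  let gact (g : G) : A ≃ₐ[R] A :=
    AlgEquiv.ofRingEquiv (f := MulSemiringAction.toRingEquiv G A g) (fun r => hRG g r)
  let F : G × {φ : FixedPoints.subalgebra k A G ≃ₐ[k] FixedPoints.subalgebra k A G //
        ∀ b : FixedPoints.subalgebra k A G, (b : A) ∈ Set.range (algebraMap R A) → (φ b : A) = b} →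
      (A ≃ₐ[R] A) := fun x =>
    (gact x.1).trans (AlgEquiv.ofRingEquiv (f := (ψ x.2.1).toRingEquiv) (fun r => hψR x.2 r))
  have hF (x) (a : A) : F x a = ψ x.2.1 (x.1 • a) := rfl
  refine Nat.card_le_card_of_injective F ?_
  rintro ⟨g, φ⟩ ⟨g', φ'⟩ h
  have h1 (a : A) : ψ φ.1 (g • a) = ψ φ'.1 (g' • a) := by
    rw [← hF (g, φ), ← hF (g', φ'), h]
  have h2 : φ = φ' := by
    apply Subtype.ext
    apply AlgEquiv.ext
    intro b
    apply Subtype.ext
    have h3 := h1 b
    rw [b.2 g, b.2 g', hψ, hψ] at h3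
    exact h3
  subst h2
  have h4 (a : A) : g • a = g' • a := (ψ φ.1).injective (h1 a)
  have h5 : g'⁻¹ * g = 1 := hfaith _ fun a => by rw [mul_smul, h4, inv_smul_smul]
  have h6 : g = g' := by rwa [inv_mul_eq_one, eq_comm] at h5
  rw [h6]

end K874.ExtCount
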