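import Mathlib.RingTheory.LocalProperties.Exactness
import Mathlib.RingTheory.LocalProperties.Projective
import Mathlib.RingTheory.Ideal.KrullsHeightTheorem
import Mathlib.RingTheory.Ideal.Height
import Mathlib.RingTheory.LocalRing.Module
import Mathlib.LinearAlgebra.Matrix.ToLin
import Mathlib.LinearAlgebra.Matrix.NonsingularInverse

/-!
# A map of finite projective modules which is bijective in codimension `≤ 1` is bijective
-/

set_option autoImplicit false

namespace K874.CodimIso

section

variable {R E F : Type*} [CommRing R] [AddCommGroup E] [Module R E] [AddCommGroup F] [Module R F]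

/-- bijectivity at a prime, elementwise -/
def BijAt (φ : E →ₗ[R] F) (q : Ideal R) : Prop :=
  (∀ y : F, ∃ s : R, s ∉ q ∧ ∃ x, φ x = s • y) ∧ ∀ x : E, φ x = 0 → ∃ s : R, s ∉ q ∧ s • x = 0

theorem mk_eq_zero_iff' {S : Submonoid R} (x : E) (t : S) :
    LocalizedModule.mk x t = 0 ↔ ∃ s : S, (s : R) • x = 0 := by
  rw [← LocalizedModule.zero_mk (1 : S), LocalizedModule.mk_eq]
  constructor
  · rintro ⟨u, hu⟩
    refine ⟨u, ?_⟩
    rw [smul_zero, smul_zero, one_smul] at hu
    exact hu
  · rintro ⟨u, hu⟩
    refine ⟨u, ?_⟩
    rw [smul_zero, smul_zero, one_smul]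
    exact hu

theorem bijective_map_of_bijAt (φ : E →ₗ[R] F) (q : Ideal R) [q.IsPrime] (h : BijAt φ q) :
    Function.Bijective (LocalizedModule.map q.primeCompl φ) := by
  constructor
  · rw [injective_iff_map_eq_zero]
    intro z hz
    induction z using LocalizedModule.induction_on with
    | _ x t =>
      rw [LocalizedModule.map_mk, mk_eq_zero_iff'] at hz
      obtain ⟨s, hs⟩ := hz
      have h1 : φ ((s : R) • x) = 0 := by
        rw [map_smul]; exact hs
      obtain ⟨s', hs', hs''⟩ := h.2 _ h1
      rw [mk_eq_zero_iff']
      refine ⟨⟨s', hs'⟩ * s, ?_⟩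
      change (s' * (s : R)) • x = 0
      rw [mul_smul]
      exact hs''
  · intro z
    induction z using LocalizedModule.induction_on with
    | _ y t =>
      obtain ⟨s, hs, x, hx⟩ := h.1 y
      refine ⟨LocalizedModule.mk x (⟨s, hs⟩ * t), ?_⟩
      rw [LocalizedModule.map_mk, hx, LocalizedModule.mk_eq]
      refine ⟨1, ?_⟩
      rw [one_smul, one_smul]
      change (t : R) • s • y = (s * (t : R)) • y
      rw [smul_smul, mul_comm]

/-- The local case. -/
theorem bijective_of_free [IsNoetherianRing R] [Nontrivial R] [Module.Free R E] [Module.Finite R E]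
    [Module.Free R F] [Module.Finite R F] (φ : E →ₗ[R] F)
    (hφ : ∀ q : Ideal R, q.IsPrime → q.height ≤ 1 → BijAt φ q)
    : Function.Bijective φ := by
  classical
  -- a minimal prime
  obtain ⟨q₀, hq₀⟩ : Nonempty (minimalPrimes R) := Ideal.nonempty_minimalPrimes bot_ne_top
  have hq₀p : q₀.IsPrime := hq₀.1.1
  have hq₀h : q₀.height = 0 := Ideal.height_eq_zero_iff.mpr hq₀
  have hbij := bijective_map_of_bijAt φ q₀ (hφ q₀ hq₀p (by rw [hq₀h]; exact zero_le_one))
  have hrank : Module.finrank R E = Module.finrank R F := by
    have h1 := LinearEquiv.finrank_eq (LinearEquiv.ofBijective _ hbij)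
    rw [Module.finrank_of_isLocalizedModule_of_free (Localization q₀.primeCompl) q₀.primeCompl
      (LocalizedModule.mkLinearMap q₀.primeCompl E),
      Module.finrank_of_isLocalizedModule_of_free (Localization q₀.primeCompl) q₀.primeCompl
      (LocalizedModule.mkLinearMap q₀.primeCompl F)] at h1
    exact h1
  let b : Module.Basis (Fin (Module.finrank R E)) R E := Module.finBasis R E
  let c : Module.Basis (Fin (Module.finrank R E)) R F :=
    (Module.finBasis R F).reindex (finCongr hrank.symm)
  let M := LinearMap.toMatrix b c φ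
  have hdet : IsUnit M.det := by
    by_contra hnu
    have hne : Ideal.span {M.det} ≠ ⊤ := by
      rwa [Ne, Ideal.span_singleton_eq_top]
    obtain ⟨q, hq⟩ := Ideal.nonempty_minimalPrimes hne
    have hqp : q.IsPrime := hq.1.1
    have hqh := Ideal.height_le_one_of_isPrincipal_of_mem_minimalPrimes _ q hq
    have hmem : M.det ∈ q := hq.1.2 (Ideal.mem_span_singleton_self _)
    have hB := (hφ q hqp hqh).1
    choose s hs x hx using fun j => hB (c j)
    let t : R := ∏ j, s j
    have ht : t ∉ q := by
      intro h
      obtain ⟨j, _, hj⟩ := (Ideal.IsPrime.prod_mem_iff).mp h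
      exact hs j hj
    have h1 : ∀ j, ∃ z, φ z = t • c j := by
      intro j
      refine ⟨(∏ i ∈ Finset.univ.erase j, s i) • x j, ?_⟩
      rw [map_smul, hx, smul_smul]
      congr 1
      rw [mul_comm]
      exact Finset.mul_prod_erase Finset.univ s (Finset.mem_univ j)
    choose z hz using h1
    let ψ : F →ₗ[R] E := c.constr R z
    have h2 : φ ∘ₗ ψ = t • LinearMap.id := by
      apply c.ext
      intro j
      rw [LinearMap.comp_apply, Module.Basis.constr_basis, hz]
      rfl
    have h3 : M * LinearMap.toMatrix c b ψ = t • 1 := by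
      change LinearMap.toMatrix b c φ * LinearMap.toMatrix c b ψ = _
      rw [← LinearMap.toMatrix_comp c b c, h2, map_smul, LinearMap.toMatrix_id]
    have h4 : M.det * (LinearMap.toMatrix c b ψ).det = t ^ (Module.finrank R E) := by
      rw [← Matrix.det_mul, h3, Matrix.det_smul, Matrix.det_one, mul_one, Fintype.card_fin]
    have h5 : t ^ (Module.finrank R E) ∈ q := by
      rw [← h4]
      exact Ideal.mul_mem_right _ _ hmem
    exact ht (hqp.mem_of_pow_mem _ h5)
  -- the inverse
  let ψ : F →ₗ[R] E := Matrix.toLin c b M⁻¹
  have hφM : φ = Matrix.toLin b c M := (Matrix.toLin_toMatrix b c φ).symm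
  have h1 : φ ∘ₗ ψ = LinearMap.id := by
    rw [hφM]
    change Matrix.toLin b c M ∘ₗ Matrix.toLin c b M⁻¹ = _
    rw [← Matrix.toLin_mul c b c, Matrix.mul_nonsing_inv _ hdet, Matrix.toLin_one]
  have h2 : ψ ∘ₗ φ = LinearMap.id := by
    rw [hφM]
    change Matrix.toLin c b M⁻¹ ∘ₗ Matrix.toLin b c M = _
    rw [← Matrix.toLin_mul b c b, Matrix.nonsing_inv_mul _ hdet, Matrix.toLin_one]
  exact ⟨Function.LeftInverse.injective (g := ψ) fun x => LinearMap.congr_fun h2 x,
    Function.RightInverse.surjective (g := ψ) fun x => LinearMap.congr_fun h1 x⟩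

/-- A map of finite projective modules over a Noetherian ring which is bijective at all primes of
height `≤ 1` is bijective. -/
theorem bijective_of_projective [IsNoetherianRing R] [Module.Projective R E] [Module.Finite R E]
    [Module.Projective R F] [Module.Finite R F] (φ : E →ₗ[R] F)
    (hφ : ∀ q : Ideal R, q.IsPrime → q.height ≤ 1 → BijAt φ q)
    : Function.Bijective φ := by
  apply bijective_of_localized_maximal
  intro J hJ
  have hE : Module.Free (Localization J.primeCompl) (LocalizedModule J.primeCompl E) :=
    Module.free_of_flat_of_isLocalRing (R := Localization.AtPrime J)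
  have hF : Module.Free (Localization J.primeCompl) (LocalizedModule J.primeCompl F) :=
    Module.free_of_flat_of_isLocalRing (R := Localization.AtPrime J)
  have hN : IsNoetherianRing (Localization J.primeCompl) :=
    IsLocalization.isNoetherianRing J.primeCompl _ inferInstance
  have hNt : Nontrivial (Localization J.primeCompl) :=
    inferInstanceAs (Nontrivial (Localization.AtPrime J))
  apply bijective_of_free
  intro q hq hqh
  have hh : (q.under R).height ≤ 1 := by
    rw [IsLocalization.height_under J.primeCompl]
    exact hqh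
  have hB := hφ (q.under R) inferInstance hh
  constructor
  · intro y
    induction y using LocalizedModule.induction_on with
    | _ y t =>
      obtain ⟨s, hs, x, hx⟩ := hB.1 y
      refine ⟨algebraMap R _ s, hs, LocalizedModule.mk x t, ?_⟩
      rw [LocalizedModule.map_mk, hx, algebraMap_smul, LocalizedModule.smul'_mk]
  · intro z hz
    induction z using LocalizedModule.induction_on with
    | _ x t =>
      rw [LocalizedModule.map_mk, mk_eq_zero_iff'] at hz
      obtain ⟨s, hs⟩ := hz
      have h1 : φ ((s : R) • x) = 0 := by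
        rw [map_smul]; exact hs
      obtain ⟨s', hs', hs''⟩ := hB.2 _ h1
      refine ⟨algebraMap R _ s', hs', ?_⟩
      rw [algebraMap_smul, LocalizedModule.smul'_mk, mk_eq_zero_iff']
      refine ⟨s, ?_⟩
      change (s : R) • s' • x = 0
      rw [smul_comm]
      exact hs''

end

end K874.CodimIso
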