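import Mathlib.RingTheory.Ideal.GoingUp
import Mathlib.RingTheory.Ideal.Pointwise
import Mathlib.Algebra.Algebra.Subalgebra.Lattice
import Mathlib.LinearAlgebra.Finsupp.LinearCombination
import Mathlib.Algebra.Ring.Action.Basic

/-!
# The Galois criterion: trivial inertia gives a dual basis

`exists_dual`: a finite group `G` acts on `A` over `R`, `A` integral over `R`. If no `g ≠ 1` acts
trivially modulo a prime over `q`, then there are `s ∉ q` and `x_k, y_k ∈ A` with
`∑ x_k g(y_k) = s` for `g = 1` and `= 0` for `g ≠ 1`.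
-/

set_option autoImplicit false

namespace K874.GalCrit

variable {R A G : Type*} [CommRing R] [CommRing A] [Algebra R A] [Algebra.IsIntegral R A]
  [Group G] [MulSemiringAction G A]

/-- The ring homomorphism `y ↦ (g ↦ g y)`. -/
def phi (G A : Type*) [CommRing A] [Group G] [MulSemiringAction G A] : A →+* (G → A) :=
  RingHom.pi fun g => MulSemiringAction.toRingHom G A g

@[simp] theorem phi_apply (y : A) (g : G) : phi G A y g = g • y := rfl

/-- The algebra of functions `h ↦ ∑ x_k h(y_k)`. -/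
def Sa (G A : Type*) [CommRing A] [Group G] [MulSemiringAction G A] : Subalgebra A (G → A) :=
  Algebra.adjoin A (Set.range (phi G A))

theorem toSubmodule_Sa : Subalgebra.toSubmodule (Sa G A) =
    Submodule.span A (Set.range (phi G A)) := by
  unfold Sa
  apply Algebra.adjoin_eq_span_of_subset
  have : Submonoid.closure (Set.range (phi G A)) = MonoidHom.mrange (phi G A : A →* (G → A)) := by
    have h : Set.range (phi G A) = (MonoidHom.mrange (phi G A : A →* (G → A)) : Set (G → A)) := rfl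
    rw [h, Submonoid.closure_eq]
  rw [this]
  exact Submodule.subset_span

theorem mem_Sa_iff (F : G → A) : F ∈ Sa G A ↔ ∃ (n : ℕ) (x y : Fin n → A),
    ∀ g : G, F g = ∑ k, x k * (g • y k) := by
  rw [← Subalgebra.mem_toSubmodule, toSubmodule_Sa, Submodule.mem_span_set']
  constructor
  · rintro ⟨n, f, g, rfl⟩
    choose y hy using fun i => (g i).2
    refine ⟨n, f, y, fun h => ?_⟩
    rw [Finset.sum_apply]
    refine Finset.sum_congr rfl fun i _ => ?_
    rw [Pi.smul_apply, smul_eq_mul, ← hy i, phi_apply]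
  · rintro ⟨n, x, y, h⟩
    refine ⟨n, x, fun i => ⟨phi G A (y i), y i, rfl⟩, ?_⟩
    ext g
    rw [h g, Finset.sum_apply]
    rfl

theorem exists_mem_Sa (g : G) (z : A) (hz : z ∈ Ideal.span (Set.range fun a : A => a - g • a)) :
    ∃ F ∈ Sa G A, F 1 = z ∧ F g = 0 := by
  refine Submodule.span_induction (p := fun z _ => ∃ F ∈ Sa G A, F 1 = z ∧ F g = 0)
    ?_ ?_ ?_ ?_ hz
  · rintro _ ⟨a, rfl⟩
    refine ⟨phi G A a - algebraMap A (G → A) (g • a), ?_, ?_, ?_⟩
    · exact sub_mem (Algebra.subset_adjoin ⟨a, rfl⟩) (Subalgebra.algebraMap_mem _ _)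
    · simp
    · simp
  · exact ⟨0, zero_mem _, rfl, rfl⟩
  · rintro x y _ _ ⟨F, hF, hF1, hFg⟩ ⟨F', hF', hF1', hFg'⟩
    exact ⟨F + F', add_mem hF hF', by simp [hF1, hF1'], by simp [hFg, hFg']⟩
  · rintro c x _ ⟨F, hF, hF1, hFg⟩
    exact ⟨c • F, Subalgebra.smul_mem _ hF c, by simp [hF1], by simp [hFg]⟩

omit [Algebra.IsIntegral R A] in
/-- The Galois criterion, elementwise form: if the ideals `(a - g a)` meet the complement of `q`. -/
theorem exists_dual_of_mem [Finite G] (q : Ideal R) [q.IsPrime]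
    (h : ∀ g : G, g ≠ 1 → ∃ s : R, s ∉ q ∧
      algebraMap R A s ∈ Ideal.span (Set.range fun a : A => a - g • a)) :
    ∃ s : R, s ∉ q ∧ ∃ (n : ℕ) (x y : Fin n → A), ∀ g : G,
      (g = 1 → ∑ k, x k * (g • y k) = algebraMap R A s) ∧
      (g ≠ 1 → ∑ k, x k * (g • y k) = 0) := by
  classical
  have := Fintype.ofFinite G
  choose! s hs hs' using h
  have h1 : ∀ g : G, g ≠ 1 → ∃ F ∈ Sa G A, F 1 = algebraMap R A (s g) ∧ F g = 0 :=
    fun g hg => exists_mem_Sa g _ (hs' g hg)
  choose! F hF hF1 hFg using h1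
  refine ⟨∏ g ∈ Finset.univ.erase (1 : G), s g, ?_, ?_⟩
  · intro hmem
    obtain ⟨g, hg, hg'⟩ := (Ideal.IsPrime.prod_mem_iff).mp hmem
    exact hs g (Finset.ne_of_mem_erase hg) hg'
  · obtain ⟨n, x, y, hxy⟩ := (mem_Sa_iff (∏ g ∈ Finset.univ.erase (1 : G), F g)).mp
      (prod_mem fun g hg => hF g (Finset.ne_of_mem_erase hg))
    refine ⟨n, x, y, fun g => ⟨?_, ?_⟩⟩
    · rintro rfl
      rw [← hxy, Finset.prod_apply, map_prod]
      exact Finset.prod_congr rfl fun g hg => hF1 g (Finset.ne_of_mem_erase hg)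
    · intro hg
      rw [← hxy, Finset.prod_apply]
      exact Finset.prod_eq_zero (Finset.mem_erase.mpr ⟨hg, Finset.mem_univ g⟩) (hFg g hg)

/-- The Galois criterion. -/
theorem exists_dual [Finite G] (q : Ideal R) [q.IsPrime]
    (h : ∀ Q : Ideal A, Q.IsPrime → Q.comap (algebraMap R A) = q → Q.inertia G = ⊥) :
    ∃ s : R, s ∉ q ∧ ∃ (n : ℕ) (x y : Fin n → A), ∀ g : G,
      (g = 1 → ∑ k, x k * (g • y k) = algebraMap R A s) ∧
      (g ≠ 1 → ∑ k, x k * (g • y k) = 0) := by
  apply exists_dual_of_mem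
  intro g hg
  by_contra hno
  push Not at hno
  have hle : (Ideal.span (Set.range fun a : A => a - g • a)).comap (algebraMap R A) ≤ q := by
    intro s hs
    by_contra hsq
    exact hno s hsq hs
  obtain ⟨Q, hQ, hQp, hQc⟩ := Ideal.exists_ideal_over_prime_of_isIntegral q _ hle
  have h1 : g ∈ Q.inertia G := by
    intro a
    have : a - g • a ∈ Q := hQ (Ideal.subset_span ⟨a, rfl⟩)
    rw [← neg_sub]
    exact neg_mem this
  rw [h Q hQp hQc] at h1
  exact hg (Subgroup.mem_bot.mp h1)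

end K874.GalCrit
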