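import Groth.Agent.WildQuot.K874.GalCrit
import Mathlib.RingTheory.Invariant.Basic

/-!
# Inertia in quotient groups

`exists_inertia_lift`: inertia elements for the invariants `A^N` lift to inertia elements for `A`.
`exists_dual_fixed`: if the inertia groups over `q` are contained in `N`, then there is a dual basis
for the action of `H / N` on `A^N` over a neighbourhood of `q`.
-/

set_option autoImplicit false

namespace K874.InertQuot

open scoped Pointwise

theorem exists_inertia_lift {B A H : Type*} [CommRing B] [CommRing A] [Algebra B A]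
    [Group H] [Finite H] [MulSemiringAction H A] (N : Subgroup H) [SMulCommClass N B A]
    [Algebra.IsInvariant B A N] (Q : Ideal B) [Q.IsPrime]
    (P₀ : Ideal A) [P₀.IsPrime] (hP₀ : P₀.comap (algebraMap B A) = Q)
    (h₀ : H) (hh : ∀ b : B, ∃ b' : B, h₀ • algebraMap B A b = algebraMap B A b' ∧ b' - b ∈ Q) :
    ∃ n : N, (n : H) * h₀ ∈ P₀.inertia H := by
  -- `h₀ • P₀` lies over `Q`
  have hover : (h₀ • P₀).comap (algebraMap B A) = Q := by
    ext b
    rw [Ideal.mem_comap]
    constructor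
    · intro hb
      -- b ∈ h₀ P₀
      have hb' : h₀⁻¹ • algebraMap B A b ∈ P₀ := by
        rwa [← Ideal.mem_pointwise_smul_iff_inv_smul_mem]
      -- find `c` with `h₀ c = b`: use that the order is finite
      obtain ⟨m, hm⟩ : ∃ m : ℕ, h₀⁻¹ = h₀ ^ m := by
        have := isOfFinOrder_of_finite h₀
        obtain ⟨k, hk, hk'⟩ := isOfFinOrder_iff_pow_eq_one.mp this
        refine ⟨k - 1, ?_⟩
        rw [inv_eq_iff_mul_eq_one, ← pow_succ', Nat.sub_add_cancel hk, hk']
      have hpow : ∀ (m : ℕ) (b : B), ∃ b' : B, h₀ ^ m • algebraMap B A b = algebraMap B A b' ∧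
          b' - b ∈ Q := by
        intro m
        induction m with
        | zero => intro b; exact ⟨b, by simp, by simp⟩
        | succ m ih =>
          intro b
          obtain ⟨b', hb', hb''⟩ := ih b
          obtain ⟨c, hc, hc'⟩ := hh b'
          refine ⟨c, ?_, ?_⟩
          · rw [pow_succ', mul_smul, hb', hc]
          · have : c - b = (c - b') + (b' - b) := by ring
            rw [this]
            exact add_mem hc' hb''
      obtain ⟨c, hc, hc'⟩ := hpow m b
      rw [hm, hc, ← Ideal.mem_comap, hP₀] at hb'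
      have : b = c - (c - b) := by ring
      rw [this]
      exact sub_mem hb' hc'
    · intro hb
      have hpow' : algebraMap B A b ∈ h₀ • P₀ := by
        obtain ⟨m, hm⟩ : ∃ m : ℕ, h₀⁻¹ = h₀ ^ m := by
          have := isOfFinOrder_of_finite h₀
          obtain ⟨k, hk, hk'⟩ := isOfFinOrder_iff_pow_eq_one.mp this
          refine ⟨k - 1, ?_⟩
          rw [inv_eq_iff_mul_eq_one, ← pow_succ', Nat.sub_add_cancel hk, hk']
        rw [Ideal.mem_pointwise_smul_iff_inv_smul_mem, hm]
        have hpow : ∀ (m : ℕ) (b : B), ∃ b' : B, h₀ ^ m • algebraMap B A b = algebraMap B A b' ∧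
            b' - b ∈ Q := by
          intro m
          induction m with
          | zero => intro b; exact ⟨b, by simp, by simp⟩
          | succ m ih =>
            intro b
            obtain ⟨b', hb', hb''⟩ := ih b
            obtain ⟨c, hc, hc'⟩ := hh b'
            refine ⟨c, ?_, ?_⟩
            · rw [pow_succ', mul_smul, hb', hc]
            · have : c - b = (c - b') + (b' - b) := by ring
              rw [this]
              exact add_mem hc' hb''
        obtain ⟨c, hc, hc'⟩ := hpow m b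
        rw [hc, ← Ideal.mem_comap, hP₀]
        have : c = (c - b) + b := by ring
        rw [this]
        exact add_mem hc' hb
      exact hpow'
  have hprime : (h₀ • P₀).IsPrime := Ideal.IsPrime.smul h₀
  obtain ⟨n, hn⟩ := Algebra.IsInvariant.exists_smul_of_under_eq B A N (h₀ • P₀) P₀
    (hover.trans hP₀.symm)
  -- `h₁ = n h₀` stabilizes `P₀`
  let h₁ : H := (n : H) * h₀
  have hstab : h₁ • P₀ = P₀ := by
    rw [mul_smul]
    exact hn.symm
  have hlo : P₀.LiesOver Q := ⟨hP₀.symm⟩
  have hmem : ∀ a : A, a ∈ P₀ ↔ h₁ • a ∈ P₀ := by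
    intro a
    conv_rhs => rw [← hstab]
    rw [Ideal.smul_mem_pointwise_smul_iff]
  -- the automorphism of `A / P₀`
  have hmap : P₀ = Ideal.map ((MulSemiringAction.toRingEquiv H A h₁ : A ≃+* A) : A →+* A) P₀ := by
    apply le_antisymm
    · intro a ha
      have h1 : a = (MulSemiringAction.toRingEquiv H A h₁ : A ≃+* A) (h₁⁻¹ • a) :=
        (smul_inv_smul h₁ a).symm
      rw [h1]
      apply Ideal.mem_map_of_mem
      rw [hmem, smul_inv_smul]
      exact ha
    · rw [Ideal.map_le_iff_le_comap]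
      intro a ha
      exact (hmem a).mp ha
  let α₀ : (A ⧸ P₀) ≃+* (A ⧸ P₀) :=
    Ideal.quotientEquiv P₀ P₀ (MulSemiringAction.toRingEquiv H A h₁) hmap
  have hα₀ : ∀ a : A, α₀ (Ideal.Quotient.mk P₀ a) = Ideal.Quotient.mk P₀ (h₁ • a) := fun a => rfl
  let α : (A ⧸ P₀) ≃ₐ[B ⧸ Q] (A ⧸ P₀) := AlgEquiv.ofRingEquiv (f := α₀) (by
    intro b
    obtain ⟨b, rfl⟩ := Ideal.Quotient.mk_surjective b
    change α₀ (Ideal.Quotient.mk P₀ (algebraMap B A b)) = Ideal.Quotient.mk P₀ (algebraMap B A b)
    rw [hα₀, Ideal.Quotient.mk_eq_mk_iff_sub_mem]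
    obtain ⟨b', hb', hb''⟩ := hh b
    change ((n : H) * h₀) • algebraMap B A b - algebraMap B A b ∈ P₀
    rw [mul_smul, hb']
    have : (n : H) • algebraMap B A b' = algebraMap B A b' := by
      have h1 := smul_algebraMap n b' (A := A)
      exact h1
    rw [this, ← map_sub, ← Ideal.mem_comap, hP₀]
    exact hb'')
  obtain ⟨σ, hσ⟩ := Ideal.Quotient.stabilizerHom_surjective N Q P₀ α
  obtain ⟨τ, hτ, h1⟩ : ∃ τ : N, ((τ : H) • P₀ = P₀) ∧ ∀ a : A, (τ : H) • a - h₁ • a ∈ P₀ := by
    refine ⟨(σ : N), σ.2, ?_⟩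
    intro a
    rw [← Ideal.Quotient.mk_eq_mk_iff_sub_mem]
    have := DFunLike.congr_fun hσ (Ideal.Quotient.mk P₀ a)
    exact this
  refine ⟨(τ⁻¹ * n), ?_⟩
  intro a
  have h2 : ((τ⁻¹ * n : N) : H) * h₀ = (τ : H)⁻¹ * h₁ := by
    rw [Subgroup.coe_mul, Subgroup.coe_inv, mul_assoc]
  have h3 : (τ : H)⁻¹ • ((τ : H) • a - h₁ • a) ∈ P₀ := by
    have h4 := h1 a
    rw [← hτ, Ideal.mem_pointwise_smul_iff_inv_smul_mem] at h4
    exact h4
  rw [smul_sub, inv_smul_smul, ← mul_smul] at h3
  change (((τ⁻¹ * n : N) : H) * h₀) • a - a ∈ P₀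
  rw [h2, ← neg_sub]
  exact neg_mem h3

theorem exists_dual_fixed {R A H : Type*} [CommRing R] [CommRing A] [Algebra R A]
    [Algebra.IsIntegral R A] [Group H] [Finite H] [MulSemiringAction H A] [SMulCommClass H R A]
    (N : Subgroup H) [N.Normal] (q : Ideal R) [q.IsPrime]
    (hin : ∀ P : Ideal A, P.IsPrime → P.comap (algebraMap R A) = q → P.inertia H ≤ N) :
    ∃ s : R, s ∉ q ∧ ∃ (n : ℕ) (x y : Fin n → A),
      (∀ k, x k ∈ FixedPoints.subalgebra R A N) ∧ (∀ k, y k ∈ FixedPoints.subalgebra R A N) ∧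
      ∀ h : H, (h ∈ N → ∑ k, x k * (h • y k) = algebraMap R A s) ∧
        (h ∉ N → ∑ k, x k * (h • y k) = 0) := by
  classical
  let B := FixedPoints.subalgebra R A N
  have hintB : Algebra.IsIntegral R B := by
    constructor
    intro b
    have h1 : IsIntegral R (B.val b) := Algebra.IsIntegral.isIntegral _
    exact (isIntegral_algHom_iff B.val Subtype.val_injective).mp h1
  have hintBA : Algebra.IsIntegral B A := Algebra.IsIntegral.tower_top R
  have hinv : Algebra.IsInvariant B A N := ⟨fun a ha => ⟨⟨a, ha⟩, rfl⟩⟩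
  have hsc : SMulCommClass N B A := by
    constructor
    intro n b a
    change n • ((b : A) * a) = (b : A) * n • a
    rw [smul_mul', b.2 n]
  obtain ⟨s, hs, n, x, y, hxy⟩ := GalCrit.exists_dual (R := R) (A := B) (G := H ⧸ N) q (by
    intro Q hQ hQq
    rw [eq_bot_iff]
    intro g hg
    obtain ⟨h₀, rfl⟩ := QuotientGroup.mk_surjective g
    obtain ⟨P₀, -, hP₀, hP₀Q⟩ := Ideal.exists_ideal_over_prime_of_isIntegral (S := A) Q ⊥ (by
      intro b hb
      have : (b : A) = 0 := hb
      have : b = 0 := Subtype.ext this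
      rw [this]
      exact Q.zero_mem)
    obtain ⟨n, hn⟩ := exists_inertia_lift N Q P₀ hP₀Q h₀ (by
      intro b
      refine ⟨(QuotientGroup.mk h₀ : H ⧸ N) • b, rfl, hg b⟩)
    have h1 := hin P₀ hP₀ (by
      rw [← hQq, ← hP₀Q, Ideal.comap_comap]
      rfl) hn
    rw [Subgroup.mem_bot, QuotientGroup.eq_one_iff]
    have := N.mul_mem (N.inv_mem n.2) h1
    rwa [inv_mul_cancel_left] at this)
  refine ⟨s, hs, n, fun k => x k, fun k => y k, fun k => (x k).2, fun k => (y k).2, fun h => ?_⟩
  have hc : ((∑ k, x k * ((QuotientGroup.mk h : H ⧸ N) • y k) : B) : A) =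
      ∑ k, (x k : A) * (h • (y k : A)) := by
    rw [AddSubmonoidClass.coe_finsetSum]
    rfl
  constructor
  · intro hN
    have h1 := (hxy (QuotientGroup.mk h : H ⧸ N)).1 ((QuotientGroup.eq_one_iff h).mpr hN)
    rw [← hc, h1]
    rfl
  · intro hN
    have h1 := (hxy (QuotientGroup.mk h : H ⧸ N)).2 (fun h' => hN ((QuotientGroup.eq_one_iff h).mp h'))
    rw [← hc, h1]
    rfl

end K874.InertQuot
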