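import Groth.Agent.WildQuot.K874.ProdGen
import Groth.Agent.Etalg.NormalDvr
import Mathlib.LinearAlgebra.Dimension.Torsion.Finite
import Mathlib.LinearAlgebra.Dimension.Localization
import Mathlib.LinearAlgebra.Dimension.RankNullity
import Mathlib.Algebra.BigOperators.Ring.Finset
import Mathlib.LinearAlgebra.Dimension.Free
import Mathlib.RingTheory.Finiteness.Basic

/-!
# Products of free subalgebras: a basis, and the codimension one criterion
-/

set_option autoImplicit false
universe u v

namespace K874.ProdFree

section span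

variable {R A : Type*} [CommRing R] [CommRing A] [Algebra R A] {ι : Type*} [Fintype ι]
  [DecidableEq ι] (B : ι → Subalgebra R A)

/-- products of elements of the `B i` -/
def Phi : (∀ i, B i) →* A where
  toFun z := ∏ i, (z i : A)
  map_one' := by simp
  map_mul' z w := by
    rw [← Finset.prod_mul_distrib]
    rfl

theorem toSubmodule_iSup_le (κ : ι → Type*) [∀ i, Fintype (κ i)]
    (b : ∀ i, κ i → B i) (hb : ∀ i, (⊤ : Submodule R (B i)) ≤ Submodule.span R (Set.range (b i))) :
    Subalgebra.toSubmodule (⨆ i, B i) ≤
      Submodule.span R (Set.range fun k : (∀ i, κ i) => ∏ i, (b i (k i) : A)) := by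
  have h1 : (⨆ i, B i) ≤ Algebra.adjoin R ((MonoidHom.mrange (Phi B) : Submonoid A) : Set A) := by
    refine iSup_le fun i z hz => Algebra.subset_adjoin ?_
    refine ⟨Pi.mulSingle i ⟨z, hz⟩, ?_⟩
    change ∏ j, ((Pi.mulSingle i (⟨z, hz⟩ : B i) : ∀ j, B j) j : A) = z
    rw [Finset.prod_eq_single i]
    · rw [Pi.mulSingle_eq_same]
    · intro j _ hj
      rw [Pi.mulSingle_eq_of_ne hj]
      rfl
    · intro h
      exact absurd (Finset.mem_univ _) h
  have h2 : Subalgebra.toSubmodule (Algebra.adjoin R ((MonoidHom.mrange (Phi B) : Submonoid A) : Set A)) =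
      Submodule.span R ((MonoidHom.mrange (Phi B) : Submonoid A) : Set A) := by
    rw [Algebra.adjoin_eq_span, Submonoid.closure_eq]
  have h1' : Subalgebra.toSubmodule (⨆ i, B i) ≤
    Subalgebra.toSubmodule (Algebra.adjoin R ((MonoidHom.mrange (Phi B) : Submonoid A) : Set A)) := h1
  rw [h2] at h1'
  refine h1'.trans ?_
  rw [Submodule.span_le]
  rintro _ ⟨z, rfl⟩
  change ∏ i, (z i : A) ∈ Submodule.span R _
  have h3 : ∀ i, ∃ c : κ i → R, ∑ l, c l • b i l = z i := by
    intro i
    have := hb i (Submodule.mem_top : z i ∈ ⊤)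
    rw [Submodule.mem_span_range_iff_exists_fun] at this
    exact this
  choose c hc using h3
  have h4 : ∀ i, (z i : A) = ∑ l, c i l • (b i l : A) := by
    intro i
    rw [← hc i, AddSubmonoidClass.coe_finsetSum]
    rfl
  simp_rw [h4]
  rw [Fintype.prod_sum]
  refine Submodule.sum_mem _ fun k _ => ?_
  simp_rw [Algebra.smul_def]
  rw [Finset.prod_mul_distrib, ← map_prod, ← Algebra.smul_def]
  exact Submodule.smul_mem _ _ (Submodule.subset_span ⟨k, rfl⟩)

end span

section indep

/-- A generating family of small size of a submodule of full rank is linearly independent. -/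
theorem linearIndependent_of_finrank {R A : Type*} [CommRing R] [IsDomain R] [AddCommGroup A]
    [Module R A] [Module.Finite R A] {κ : Type*} [Fintype κ]
    (e : κ → A) (hcard : Fintype.card κ ≤ Module.finrank R A)
    (htors : ∀ t : A, ∃ s : R, s ≠ 0 ∧ s • t ∈ Submodule.span R (Set.range e)) :
    LinearIndependent R e := by
  classical
  set C := Submodule.span R (Set.range e) with hC
  let f : (κ → R) →ₗ[R] A := Fintype.linearCombination R e
  have hrange : LinearMap.range f = C := by
    rw [hC, Fintype.range_linearCombination]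
  have hquot : Module.finrank R (A ⧸ C) = 0 := by
    rw [Module.finrank_eq_zero_iff_isTorsion]
    intro x
    obtain ⟨t, rfl⟩ := Submodule.mkQ_surjective C x
    obtain ⟨s, hs, hst⟩ := htors t
    refine ⟨⟨s, mem_nonZeroDivisors_of_ne_zero hs⟩, ?_⟩
    change s • (C.mkQ t) = 0
    rw [← map_smul]
    exact (Submodule.Quotient.mk_eq_zero C).mpr hst
  have h1 : Module.finrank R C = Module.finrank R A := by
    have := Submodule.finrank_quotient_add_finrank C
    omega
  have h2 : Module.finrank R ((κ → R) ⧸ LinearMap.ker f) = Module.finrank R A := by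
    rw [← h1, ← hrange]
    exact LinearEquiv.finrank_eq f.quotKerEquivRange
  have h3 : Module.finrank R (LinearMap.ker f) = 0 := by
    have h4 := Submodule.finrank_quotient_add_finrank (LinearMap.ker f)
    rw [Module.finrank_fintype_fun_eq_card] at h4
    omega
  have h5 : ∀ x ∈ LinearMap.ker f, x = 0 := by
    intro x hx
    by_contra hx0
    -- the map `R → ker f`, `r ↦ r x` is injective
    have hinj : Function.Injective (LinearMap.toSpanSingleton R (LinearMap.ker f) ⟨x, hx⟩) := by
      rw [injective_iff_map_eq_zero]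
      intro r hr
      have h6 : r • x = 0 := congrArg Subtype.val hr
      obtain ⟨k, hk⟩ := Function.ne_iff.mp hx0
      have h7 : r * x k = 0 := congrFun h6 k
      exact (mul_eq_zero.mp h7).resolve_right hk
    have h6 := LinearMap.lift_rank_le_of_injective _ hinj
    have h7 : Module.rank R (LinearMap.ker f) < Cardinal.aleph0 := by
      refine lt_of_le_of_lt (Submodule.rank_le (LinearMap.ker f)) ?_
      exact Module.rank_lt_aleph0 R (κ → R)
    have h8 : Module.rank R (LinearMap.ker f) = 0 := by
      have h9 := (Cardinal.toNat_eq_zero (c := Module.rank R (LinearMap.ker f))).mp h3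
      rcases h9 with h9 | h9
      · exact h9
      · exact absurd h7 (not_lt.mpr h9)
    rw [h8, Module.rank_self] at h6
    simp at h6
  rw [Fintype.linearIndependent_iff]
  intro g hg k
  have := h5 g (by
    rw [LinearMap.mem_ker]
    exact hg)
  exact congrFun this k

/-- Membership in a free submodule can be tested in codimension one. -/
theorem mem_of_forall_height_one {R : Type u} {A : Type v} [CommRing R] [IsDomain R] [IsNoetherianRing R]
    [IsIntegrallyClosed R] [AddCommGroup A] [Module R A] [Module.IsTorsionFree R A] {κ : Type*} [Fintype κ]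
    (e : κ → A) (he : LinearIndependent R e) (t : A)
    (h0 : ∃ s : R, s ≠ 0 ∧ s • t ∈ Submodule.span R (Set.range e))
    (h1 : ∀ q : Ideal R, q.IsPrime → q.height = 1 → ∃ s : R, s ∉ q ∧
      s • t ∈ Submodule.span R (Set.range e)) :
    t ∈ Submodule.span R (Set.range e) := by
  classical
  obtain ⟨s, hs, hst⟩ := h0
  obtain ⟨c, hc⟩ := (Submodule.mem_span_range_iff_exists_fun R).mp hst
  have hdvd : ∀ k, c k ∈ Ideal.span {s} := by
    intro k
    apply Groth.Agent.Etalg.NormalDvr.mem_span_of_forall_height_one R hs
    intro P hP hP1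
    obtain ⟨s', hs', hst'⟩ := h1 P hP hP1
    refine ⟨s', hs', ?_⟩
    obtain ⟨d, hd⟩ := (Submodule.mem_span_range_iff_exists_fun R).mp hst'
    have h2 : ∑ i, (s' * c i - s * d i) • e i = 0 := by
      simp_rw [sub_smul, Finset.sum_sub_distrib, mul_smul, ← Finset.smul_sum]
      rw [hc, hd, smul_smul, smul_smul, mul_comm, sub_self]
    have h3 := (Fintype.linearIndependent_iff.mp he) _ h2 k
    rw [Ideal.mem_span_singleton]
    exact ⟨d k, sub_eq_zero.mp h3⟩
  choose d hd using fun k => Ideal.mem_span_singleton.mp (hdvd k)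
  rw [Submodule.mem_span_range_iff_exists_fun]
  refine ⟨d, ?_⟩
  have h2 : s • (∑ i, d i • e i) = s • t := by
    rw [← hc, Finset.smul_sum]
    refine Finset.sum_congr rfl fun i _ => ?_
    rw [smul_smul, ← hd i]
  exact smul_right_injective A hs h2

end indep

end K874.ProdFree
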