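import Groth.Agent.WildQuot.K874.InertQuot
import Mathlib.Algebra.Algebra.Subalgebra.Lattice

/-!
# Local generation by subrings of invariants
-/

set_option autoImplicit false

namespace K874.ProdGen

variable {R A H : Type*} [CommRing R] [CommRing A] [Algebra R A]
    [Algebra.IsIntegral R A] [Group H] [Finite H] [MulSemiringAction H A] [SMulCommClass H R A]

/-- elements multiplied into a subalgebra by elements outside `q` -/
def sat (q : Ideal R) [q.IsPrime] (C : Subalgebra R A) : Subalgebra R A where
  carrier := {z | ∃ s : R, s ∉ q ∧ algebraMap R A s * z ∈ C}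
  mul_mem' := by
    rintro a b ⟨s, hs, hs'⟩ ⟨t, ht, ht'⟩
    refine ⟨s * t, ?_, ?_⟩
    · intro h
      rcases Ideal.IsPrime.mem_or_mem ‹_› h with h | h
      · exact hs h
      · exact ht h
    · have : algebraMap R A (s * t) * (a * b) = (algebraMap R A s * a) * (algebraMap R A t * b) := by
        rw [map_mul]; ring
      rw [this]
      exact mul_mem hs' ht'
  add_mem' := by
    rintro a b ⟨s, hs, hs'⟩ ⟨t, ht, ht'⟩
    refine ⟨s * t, ?_, ?_⟩
    · intro h
      rcases Ideal.IsPrime.mem_or_mem ‹_› h with h | h
      · exact hs h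
      · exact ht h
    · have : algebraMap R A (s * t) * (a + b) = algebraMap R A t * (algebraMap R A s * a) +
          algebraMap R A s * (algebraMap R A t * b) := by
        rw [map_mul]; ring
      rw [this]
      exact add_mem (mul_mem (C.algebraMap_mem t) hs') (mul_mem (C.algebraMap_mem s) ht')
  algebraMap_mem' := by
    intro r
    exact ⟨1, fun h => Ideal.IsPrime.ne_top ‹_› ((Ideal.eq_top_iff_one q).mpr h), by
      rw [map_one, one_mul]; exact C.algebraMap_mem r⟩

theorem mem_sat {q : Ideal R} [q.IsPrime] {C : Subalgebra R A} {z : A} :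
    z ∈ sat q C ↔ ∃ s : R, s ∉ q ∧ algebraMap R A s * z ∈ C := Iff.rfl

theorem le_sat (q : Ideal R) [q.IsPrime] (C : Subalgebra R A) : C ≤ sat q C := by
  intro z hz
  exact ⟨1, fun h => Ideal.IsPrime.ne_top ‹_› ((Ideal.eq_top_iff_one q).mpr h), by
      rw [map_one, one_mul]; exact hz⟩

theorem fixed_of_le_iSup {ι : Type*} (T : Finset ι) (G : ι → Subgroup H) (a : A)
    (h : ∀ i ∈ T, ∀ g ∈ G i, g • a = a) :
    a ∈ FixedPoints.subalgebra R A ↥(⨆ i ∈ T, G i : Subgroup H) := by
  have hle : (⨆ i ∈ T, G i : Subgroup H) ≤ MulAction.stabilizer H a :=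
    iSup₂_le fun i hi g hg => h i hi g hg
  intro g
  exact hle g.2

theorem exists_mul_mem {n : ℕ} (G N : Fin n → Subgroup H) (hGN : ∀ i j, i ≠ j → G j ≤ N i)
    (hdisj : ∀ i, ∀ h ∈ G i, h ∈ N i → h = 1) (hcomm : ∀ g h : H, g * h = h * g)
    (q : Ideal R) [q.IsPrime] (i₀ : Fin n)
    (hN0 : N i₀ = ⨆ j ∈ (Finset.univ.erase i₀ : Finset (Fin n)), G j)
    (hin : ∀ i, i ≠ i₀ → ∀ P : Ideal A, P.IsPrime → P.comap (algebraMap R A) = q →
      P.inertia H ≤ N i) (t : A) :
    t ∈ sat q (⨆ i, FixedPoints.subalgebra R A ↥(N i)) := by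
  classical
  have hfin := Fintype.ofFinite H
  let C : Subalgebra R A := ⨆ i, FixedPoints.subalgebra R A ↥(N i)
  have hBC : ∀ i, FixedPoints.subalgebra R A ↥(N i) ≤ C := fun i =>
    le_iSup (fun i => FixedPoints.subalgebra R A ↥(N i)) i
  have hnorm : ∀ i, (N i).Normal := fun i => ⟨fun a ha g => by
    rw [hcomm g a, mul_inv_cancel_right]; exact ha⟩
  let D : Finset (Fin n) → Subalgebra R A := fun T =>
    FixedPoints.subalgebra R A ↥(⨆ j ∈ T, G j : Subgroup H)
  have key : ∀ T : Finset (Fin n), i₀ ∉ T → ∀ t : A, t ∈ sat q (C ⊔ D T) := by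
    intro T
    induction T using Finset.induction_on with
    | empty =>
      intro _ t
      apply le_sat
      apply (le_sup_right : D ∅ ≤ C ⊔ D ∅)
      exact fixed_of_le_iSup ∅ G t (by simp)
    | insert i T hiT ih =>
      intro hi₀ t
      have hii₀ : i ≠ i₀ := by
        rintro rfl
        exact hi₀ (Finset.mem_insert_self _ _)
      have hi₀T : i₀ ∉ T := fun h => hi₀ (Finset.mem_insert_of_mem h)
      have hle : C ⊔ D T ≤ sat q (C ⊔ D (insert i T)) := by
        apply sup_le
        · exact le_sup_left.trans (le_sat q _)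
        · intro z hz
          have := hnorm i
          obtain ⟨s, hs, m, x, y, hx, hy, hxy⟩ :=
            InertQuot.exists_dual_fixed (N i) q (hin i hii₀)
          refine ⟨s, hs, ?_⟩
          have hz' : ∀ j ∈ T, ∀ g ∈ G j, g • z = z := by
            intro j hj g hg
            exact hz ⟨g, (le_iSup₂ (f := fun j (_ : j ∈ T) => G j) j hj) hg⟩
          have hGfin := Fintype.ofFinite (G i)
          have hsum : algebraMap R A s * z = ∑ k, x k * ∑ g : G i, (g : H) • (y k * z) := by
            have h1 : ∀ k, x k * ∑ g : G i, (g : H) • (y k * z) =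
                ∑ g : G i, ((g : H) • z) * (x k * ((g : H) • y k)) := by
              intro k
              rw [Finset.mul_sum]
              refine Finset.sum_congr rfl fun g _ => ?_
              rw [smul_mul']
              ring
            rw [Finset.sum_congr rfl fun k _ => h1 k, Finset.sum_comm]
            simp_rw [← Finset.mul_sum]
            rw [Finset.sum_eq_single (1 : G i)]
            · rw [(hxy _).1 (by rw [Subgroup.coe_one]; exact (N i).one_mem), Subgroup.coe_one,
                one_smul, mul_comm]
            · intro g _ hg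
              rw [(hxy _).2, mul_zero]
              intro hN
              exact hg (Subtype.ext (hdisj i g g.2 hN))
            · intro h
              exact absurd (Finset.mem_univ _) h
          rw [hsum]
          refine Subalgebra.sum_mem _ fun k _ => Subalgebra.mul_mem _ ?_ ?_
          · exact (le_sup_left : C ≤ _) (hBC i (hx k))
          · apply (le_sup_right : D (insert i T) ≤ C ⊔ D (insert i T))
            apply fixed_of_le_iSup (insert i T) G
            intro j hj g hg
            rw [Finset.smul_sum]
            rcases Finset.mem_insert.mp hj with rfl | hjT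
            · simp_rw [← mul_smul]
              exact Fintype.sum_equiv (Equiv.mulLeft (⟨g, hg⟩ : G j)) _ _ fun g' => rfl
            · refine Finset.sum_congr rfl fun g' _ => ?_
              rw [← mul_smul, hcomm, mul_smul, smul_mul' g, hz' j hjT g hg]
              congr 2
              have hji : i ≠ j := by
                rintro rfl
                exact hiT hjT
              exact hy k ⟨g, hGN i j hji hg⟩
      obtain ⟨s, hs, hst⟩ := ih hi₀T t
      obtain ⟨s', hs', hst'⟩ := hle hst
      refine ⟨s' * s, ?_, ?_⟩
      · intro h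
        rcases Ideal.IsPrime.mem_or_mem ‹_› h with h | h
        · exact hs' h
        · exact hs h
      · rw [map_mul, mul_assoc]
        exact hst'
  have h1 := key (Finset.univ.erase i₀) (Finset.notMem_erase _ _) t
  have h2 : C ⊔ D (Finset.univ.erase i₀) = C := by
    apply sup_eq_left.mpr
    change FixedPoints.subalgebra R A ↥(⨆ j ∈ (Finset.univ.erase i₀ : Finset (Fin n)), G j : Subgroup H) ≤ C
    rw [← hN0]
    exact hBC i₀
  rwa [h2] at h1

end K874.ProdGen
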